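import Groth.Agent.H1.Obs.UFG.Cochar
import Groth.Agent.Lib.Dyn85.CellField
import Groth.Agent.H1.Classical.Torus.MaxTorus
import Groth.Agent.H1.Classical.Scheme
import Groth.Agent.H1.Classical.Image
import Groth.Agent.H1.Classical.Apply
import Groth.Agent.S16480
import Mathlib.AlgebraicGeometry.Properties
import Mathlib.GroupTheory.Commutator.Basic
import Mathlib.GroupTheory.Solvable

/-!
# A solvable subgroup with an open double coset against a Borel subgroup
-/

universe u w

namespace Groth.Agent.H1.Obs.UFG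

set_option linter.style.haveILetI false
set_option linter.unusedSectionVars false

open LaurentPolynomial TensorProduct WithConv Module CategoryTheory AlgebraicGeometry
open Groth.Agent.H1.Classical Groth.Agent.H1.Classical.Torus Groth.Agent.H1.Classical.Torus.Centraliser
open Groth.Agent.Lib.Dyn85 Groth.Agent.Lib.Dyn85.GmAct
open scoped commutatorElement

variable {k : Type u} [Field k] {A : Type u} [CommRing A] [HopfAlgebra k A]
  {W : Type w} [AddCommGroup W] [Module k W] (σ : Representation k (HopfPts.Pt k A) W)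
  {d : ℕ} (e : Basis (Fin d) k W) (a : Fin d → ℤ)

/-- An endomorphism raises the weights by at least `j`. -/
def Lvl (j : ℤ) (M : Module.End k W) : Prop := ∀ i l, a i < a l + j → e.repr (M (e l)) i = 0

theorem Lvl.add {j : ℤ} {M N : Module.End k W} (hM : Lvl e a j M) (hN : Lvl e a j N) : Lvl e a j (M + N) :=
  fun i l h => by rw [LinearMap.add_apply, map_add, Finsupp.add_apply, hM i l h, hN i l h, add_zero]

theorem Lvl.sub {j : ℤ} {M N : Module.End k W} (hM : Lvl e a j M) (hN : Lvl e a j N) : Lvl e a j (M - N) :=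
  fun i l h => by rw [LinearMap.sub_apply, map_sub, Finsupp.sub_apply, hM i l h, hN i l h, sub_zero]

theorem Lvl.zero {j : ℤ} : Lvl e a j (0 : Module.End k W) := fun i l _ => by simp

theorem Lvl.mono {i j : ℤ} {M : Module.End k W} (hM : Lvl e a j M) (h : i ≤ j) : Lvl e a i M :=
  fun p q hpq => hM p q (by omega)

theorem Lvl.mul {p q : ℤ} {M N : Module.End k W} (hM : Lvl e a p M) (hN : Lvl e a q N) :
    Lvl e a (p + q) (M * N) := fun i l h => by
  rw [End.mul_apply, ← e.sum_repr (N (e l)), map_sum, map_sum, Finsupp.finsetSum_apply]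
  refine Finset.sum_eq_zero fun m _ => ?_
  rw [map_smul, map_smul, Finsupp.smul_apply, smul_eq_mul]
  by_cases hm : a m < a l + q
  · rw [hN m l hm, zero_mul]
  · rw [hM i m (by omega), mul_zero]

/-- The filtration of the unipotent group. -/
def lvlGroup (j : ℕ) : Subgroup (HopfPts.Pt k A) where
  carrier := {g | Lvl e a j (σ g - 1) ∧ Lvl e a j (σ g⁻¹ - 1)}
  one_mem' := by
    simp only [Set.mem_setOf_eq, inv_one, map_one, sub_self]
    exact ⟨Lvl.zero e a, Lvl.zero e a⟩
  inv_mem' := fun {g} h => by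
    refine ⟨h.2, ?_⟩
    rw [_root_.inv_inv]
    exact h.1
  mul_mem' := fun {g h} hg hh => by
    have key : ∀ M N : Module.End k W, Lvl e a j (M - 1) → Lvl e a j (N - 1) → Lvl e a j (M * N - 1) := by
      intro M N hM hN
      rw [show M * N - 1 = (M - 1) * (N - 1) + ((M - 1) + (N - 1)) by noncomm_ring]
      exact ((hM.mul e a hN).mono e a (by omega)).add e a (hM.add e a hN)
    refine ⟨?_, ?_⟩
    · rw [map_mul]; exact key _ _ hg.1 hh.1
    · rw [mul_inv_rev, map_mul]; exact key _ _ hh.2 hg.2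

theorem commutator_lvlGroup {j : ℕ} (hj : 1 ≤ j) :
    ⁅lvlGroup σ e a j, lvlGroup σ e a j⁆ ≤ lvlGroup σ e a (j + 1) := by
  rw [Subgroup.commutator_le]
  have key : ∀ g h : HopfPts.Pt k A, g ∈ lvlGroup σ e a j → h ∈ lvlGroup σ e a j →
      Lvl e a (j + 1 : ℕ) (σ ⁅g, h⁆ - 1) := by
    intro g h hg hh
    have hid : σ ⁅g, h⁆ - 1 = ((σ g - 1) * (σ h - 1) - (σ h - 1) * (σ g - 1)) * σ (g⁻¹ * h⁻¹) := by
      rw [show (σ g - 1) * (σ h - 1) - (σ h - 1) * (σ g - 1) = σ g * σ h - σ h * σ g by noncomm_ring,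
        sub_mul, ← map_mul, ← map_mul, ← map_mul, ← map_mul, commutatorElement_def]
      simp [mul_assoc]
    have h1 : Lvl e a (j + j : ℤ) ((σ g - 1) * (σ h - 1) - (σ h - 1) * (σ g - 1)) :=
      (hg.1.mul e a hh.1).sub e a (hh.1.mul e a hg.1)
    have h2 : Lvl e a (j : ℤ) (σ (g⁻¹ * h⁻¹) - 1) := ((lvlGroup σ e a j).mul_mem
      ((lvlGroup σ e a j).inv_mem hg) ((lvlGroup σ e a j).inv_mem hh)).1
    rw [hid, show σ (g⁻¹ * h⁻¹) = 1 + (σ (g⁻¹ * h⁻¹) - 1) by abel, mul_add, _root_.mul_one]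
    exact (h1.mono e a (by omega)).add e a ((h1.mul e a h2).mono e a (by omega))
  intro g hg h hh
  exact ⟨key g h hg hh, by rw [commutatorElement_inv]; exact key h g hh hg⟩

/-- The unipotent group of a one-parameter subgroup is solvable. -/
theorem isSolvable_of_lvl (hσ : Function.Injective σ) (H : Subgroup (HopfPts.Pt k A))
    (hH : H ≤ lvlGroup σ e a 1) : Group.IsSolvable H := by
  have key : ∀ n, (derivedSeries H n).map H.subtype ≤ lvlGroup σ e a (n + 1) := by
    intro n
    induction n with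
    | zero =>
      rintro _ ⟨x, -, rfl⟩
      exact hH x.2
    | succ n ih =>
      rw [derivedSeries_succ, Subgroup.map_commutator]
      exact (Subgroup.commutator_mono ih ih).trans (commutator_lvlGroup σ e a (by omega))
  obtain ⟨N, hN⟩ : ∃ N : ℕ, ∀ i l, a i < a l + (N + 1 : ℕ) := by
    refine ⟨(∑ i, |a i|).toNat * 2, fun i l => ?_⟩
    have h1 := Finset.single_le_sum (f := fun i => |a i|) (fun i _ => abs_nonneg _) (Finset.mem_univ i)
    have h2 := Finset.single_le_sum (f := fun i => |a i|) (fun i _ => abs_nonneg _) (Finset.mem_univ l)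
    have h3 := le_abs_self (a i)
    have h4 := neg_abs_le (a l)
    omega
  refine (Group.isSolvable_def _).mpr ⟨N, (Subgroup.eq_bot_iff_forall _).mpr fun x hx => Subtype.ext (hσ ?_)⟩
  have h := (key N ⟨x, hx, rfl⟩).1
  show σ (x : HopfPts.Pt k A) = σ 1
  rw [map_one, ← sub_eq_zero]
  exact e.ext fun l => e.repr.injective (Finsupp.ext fun i => by
    rw [LinearMap.zero_apply, map_zero, Finsupp.zero_apply]
    exact h i l (hN i l))

variable {σ} {e} {a}

/-- The homogeneous coefficients of a point for a diagonal one-parameter subgroup. -/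
theorem apply_π [IsAlgClosed k] (lam : A →ₐc[k] k[T;T⁻¹])
    (hlam : ∀ (x : kˣ) i, σ (lamPt (R := k) lam x) (e i) = ((x : k) ^ a i) • e i) {i l : Fin d} {f : A}
    (hf : ∀ g : HopfPts.Pt k A, g.ofConv f = e.repr (σ g (e l)) i) (g : HopfPts.Pt k A) (n : ℤ) :
    g.ofConv ((ofLam lam).π n f) = if n = a i - a l then g.ofConv f else 0 := by
  classical
  suffices h : (ofLam lam).pt k g f = AddMonoidAlgebra.single (a i - a l) (g.ofConv f) by
    rw [← GmAct.coeff_pt, h, AddMonoidAlgebra.coeff_single, Finsupp.single_apply]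
    by_cases hn : n = a i - a l
    · rw [if_pos hn, if_pos hn.symm]
    · rw [if_neg hn, if_neg (Ne.symm hn)]
  refine laurent_ext fun x => ?_
  have hT : Units.map (evR (k := k) (AlgHom.id k k) x : k[T;T⁻¹] →* k) (Tu k) = x := by
    ext1; simp [Tu, LaurentPolynomial.T, -LaurentPolynomial.single_eq_C_mul_T]
  have h1 : post (evR (k := k) (AlgHom.id k k) x) ((ofLam lam).pt k g) = conj lam x g := by
    rw [ofLam_pt, post_conj, hT]
    congr 1
    exact pt_ext fun z => by simp [← single_eq_C, -LaurentPolynomial.single_eq_C_mul_T]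
  have h2 := congrArg (fun q : Lib.Dyn85.Pt k A k => q f) h1
  simp only [post_apply] at h2
  rw [h2, evR_single, AlgHom.id_apply, Units.val_zpow_eq_zpow_val]
  let c : HopfPts.Pt k A := conj lam x g
  show c.ofConv f = _
  have hc : c * lamPt (R := k) lam x = lamPt (R := k) lam x * g := by
    simp only [c, conj]
    exact inv_mul_cancel_right (lamPt (R := k) lam x * g) (lamPt (R := k) lam x)
  have h3 := congrArg (fun q : HopfPts.Pt k A => e.repr (σ q (e l)) i) hc
  simp only [map_mul, End.mul_apply, hlam, map_smul, Finsupp.smul_apply, smul_eq_mul] at h3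
  have hdiag : ∀ v : W, e.repr (σ (lamPt (R := k) lam x) v) i = ((x : k) ^ a i) * e.repr v i := fun v => by
    conv_lhs => rw [← e.sum_repr v, map_sum, map_sum, Finsupp.finsetSum_apply]
    rw [Finset.sum_eq_single i]
    · rw [map_smul, hlam, map_smul, map_smul, Basis.repr_self, Finsupp.smul_apply, Finsupp.smul_apply,
        Finsupp.single_eq_same, smul_eq_mul, smul_eq_mul]
      ring
    · intro m _ hm
      rw [map_smul, hlam, map_smul, map_smul, Basis.repr_self, Finsupp.smul_apply, Finsupp.smul_apply,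
        Finsupp.single_eq_of_ne (Ne.symm hm), smul_zero, smul_zero]
    · exact fun h => absurd (Finset.mem_univ i) h
  rw [hdiag, ← hf, ← hf] at h3
  have hx : (x : k) ^ a l ≠ 0 := zpow_ne_zero _ x.ne_zero
  rw [zpow_sub₀ x.ne_zero]
  field_simp
  linear_combination h3

section Main

variable [IsAlgClosed k] [Algebra.FiniteType k A]

/-- A family represented by a prime ideal has irreducible points. -/
theorem sirr_of_prime {J : Ideal A} (hJ : J.IsPrime) {H : Subgroup (HopfPts.Pt k A)}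
    (hrep : ∀ g : HopfPts.Pt k A, (∀ a ∈ J, g.ofConv a = 0) ↔ g ∈ H) :
    (HopfPts.D k A).IsCl H ∧ (HopfPts.D k A).SIrr H := by
  haveI := hJ
  have hI : ∀ z : A, (∀ g ∈ H, g.ofConv z = 0) → z ∈ J := fun z hz => by
    by_contra hzJ
    obtain ⟨χ, hχ⟩ := Solv.exists_algHom_ne_zero (K := k) (B := A ⧸ J)
      (fun h => hzJ (Ideal.Quotient.eq_zero_iff_mem.mp h) : Ideal.Quotient.mk J z ≠ 0)
    refine hχ (hz (toConv (χ.comp (Ideal.Quotient.mkₐ k J))) ((hrep _).mp fun b hb => ?_))
    show χ (Ideal.Quotient.mk J b) = 0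
    rw [Ideal.Quotient.eq_zero_iff_mem.mpr hb, map_zero]
  refine ⟨Alg.isCl_of_forall _ ((HopfPts.ev k A) '' J) (by rintro _ ⟨z, -, rfl⟩; exact ⟨z, rfl⟩)
    fun g => ⟨fun hg => ?_, fun h => (hrep g).mp fun b hb => h _ ⟨b, hb, rfl⟩⟩, ?_⟩
  · rintro _ ⟨z, hz, rfl⟩
    exact (hrep g).mpr hg z hz
  · rintro ⟨_, x, rfl⟩ ⟨_, y, rfl⟩ h
    rcases hJ.mem_or_mem (hI (x * y) fun g hg => by rw [map_mul]; exact h g hg) with h' | h'
    · exact Or.inl fun g hg => (hrep g).mpr hg x h'
    · exact Or.inr fun g hg => (hrep g).mpr hg y h'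

variable [Algebra.Smooth k A] [IsDomain A]

/-- Some closed connected solvable subgroup has an open double coset against a Borel subgroup. -/
theorem exists_open_cell {B : Subgroup (HopfPts.Pt k A)} (hB : IsBor (HopfPts.D k A) B) :
    ∃ (S : Subgroup (HopfPts.Pt k A)) (h : A), (HopfPts.D k A).IsCl S ∧ (HopfPts.D k A).SIrr S ∧
      Group.IsSolvable S ∧ h ≠ 0 ∧ ∀ χ : HopfPts.Pt k A, χ.ofConv h ≠ 0 → ∃ s ∈ S, ∃ b ∈ B, χ = s * b := by
  classical
  obtain ⟨W, _, σ, hσ⟩ := GenRep.exists_gen (HopfPts.D k A) Scheme'.hasMul_pts Scheme'.pts_ext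
  obtain ⟨T, hTB, hT, -, -⟩ := MaxTorus.exists_max Scheme'.hasMul_pts hσ hB
  have hCB := MaxTorus.centralizer_le HopfPts.sirr_univ Scheme'.hasMul_pts hσ hB hT hTB
  obtain ⟨e, a, lam, hlam, hcent⟩ := exists_cochar hσ hT.tor
  let D : GmAct k A := ofLam lam
  let Pk : Subgroup (HopfPts.Pt k A) :=
    { carrier := {g | g ∈ D.P k}
      one_mem' := (D.P k).one_mem
      mul_mem' := (D.P k).mul_mem
      inv_mem' := fun {g} hg => by
        obtain ⟨q, hq, hqg⟩ : ∃ q ∈ D.P k, q * g = 1 := ⟨_, (D.P k).inv_mem hg, inv_mul_cancel _⟩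
        have : g⁻¹ = q := inv_eq_of_mul_eq_one_left hqg
        rw [Set.mem_setOf_eq, this]; exact hq }
  let Uk : Subgroup (HopfPts.Pt k A) :=
    { carrier := {g | g ∈ D.U k}
      one_mem' := (D.U k).one_mem
      mul_mem' := (D.U k).mul_mem
      inv_mem' := fun {g} hg => by
        obtain ⟨q, hq, hqg⟩ : ∃ q ∈ D.U k, q * g = 1 := ⟨_, (D.U k).inv_mem hg, inv_mul_cancel _⟩
        have : g⁻¹ = q := inv_eq_of_mul_eq_one_left hqg
        rw [Set.mem_setOf_eq, this]; exact hq }
  let Nk : Subgroup (HopfPts.Pt k A) :=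
    { carrier := {g | g ∈ D.neg.U k}
      one_mem' := (D.neg.U k).one_mem
      mul_mem' := (D.neg.U k).mul_mem
      inv_mem' := fun {g} hg => by
        obtain ⟨q, hq, hqg⟩ : ∃ q ∈ D.neg.U k, q * g = 1 := ⟨_, (D.neg.U k).inv_mem hg, inv_mul_cancel _⟩
        have : g⁻¹ = q := inv_eq_of_mul_eq_one_left hqg
        rw [Set.mem_setOf_eq, this]; exact hq }
  choose f hf using fun i l => hσ.reg (e l) (e.coord i)
  have hf' : ∀ i l (g : HopfPts.Pt k A), g.ofConv (f i l) = e.repr (σ g (e l)) i := fun i l g => congrFun (hf i l) g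
  have hcou : ∀ i l, Coalgebra.counit (R := k) (f i l) = if l = i then 1 else 0 := fun i l => by
    have := hf' i l 1
    rw [map_one, End.one_apply, Basis.repr_self, Finsupp.single_apply] at this
    rw [← this]
    show _ = (1 : WithConv (A →ₐ[k] k)).ofConv (f i l)
    simp [AlgHom.convOne_def]
  have hone : ∀ i l, e.repr ((1 : Module.End k W) (e l)) i = if l = i then 1 else 0 := fun i l => by
    rw [End.one_apply, Basis.repr_self, Finsupp.single_apply]
  have hU : ∀ g ∈ Uk, Lvl e a 1 (σ g - 1) := fun g hg i l h => by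
    rw [LinearMap.sub_apply, map_sub, Finsupp.sub_apply, hone, ← hf', sub_eq_zero]
    obtain ⟨hP, h0⟩ := (GmAct.mem_U_iff D).mp hg
    by_cases hil : a i < a l
    · have h1 := (GmAct.mem_P_iff D).mp hP (a i - a l) (by omega) (f i l)
      rw [apply_π lam hlam (hf' i l) g, if_pos rfl] at h1
      rw [h1, if_neg (by rintro rfl; omega)]
    · have h1 := h0 (f i l)
      rw [apply_π lam hlam (hf' i l) g, if_pos (by omega), Algebra.algebraMap_self, RingHom.id_apply, hcou] at h1
      exact h1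
  have hUl : Uk ≤ lvlGroup σ e a 1 := fun g hg => ⟨hU g hg, hU _ (Uk.inv_mem hg)⟩
  have hN : ∀ g ∈ Nk, Lvl e (fun i => -a i) 1 (σ g - 1) := fun g hg i l h => by
    rw [LinearMap.sub_apply, map_sub, Finsupp.sub_apply, hone, ← hf', sub_eq_zero]
    obtain ⟨hP, h0⟩ := (GmAct.mem_U_iff D.neg).mp hg
    have h : -a i < -a l + 1 := h
    by_cases hil : a l < a i
    · have h1 := (GmAct.mem_P_iff D.neg).mp hP (-(a i - a l)) (by omega) (f i l)
      rw [GmAct.neg_π, neg_neg, apply_π lam hlam (hf' i l) g, if_pos rfl] at h1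
      rw [h1, if_neg (by rintro rfl; omega)]
    · have h1 := h0 (f i l)
      rw [GmAct.neg_π, neg_zero, apply_π lam hlam (hf' i l) g, if_pos (by omega), Algebra.algebraMap_self,
        RingHom.id_apply, hcou] at h1
      exact h1
  have hNsol : Group.IsSolvable Nk := isSolvable_of_lvl σ e (fun i => -a i) hσ.faith Nk
    fun g hg => ⟨hN g hg, hN _ (Nk.inv_mem hg)⟩
  have hUsol : Group.IsSolvable Uk := isSolvable_of_lvl σ e a hσ.faith Uk hUl
  have hPsol : Group.IsSolvable Pk := by
    haveI := hB.solv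
    haveI := hUsol
    haveI : Group.IsSolvable (Subgroup.centralizer (T : Set (HopfPts.Pt k A))) :=
      Group.isSolvable_of_isSolvable_injective (Subgroup.inclusion_injective hCB)
    have hlim : ∀ g : Pk, ∃ z : HopfPts.Pt k A, z ∈ D.Z k ∧ (∀ b, z.ofConv b = (g : HopfPts.Pt k A).ofConv (D.π 0 b)) ∧
        ∃ u ∈ Uk, (g : HopfPts.Pt k A) = z * u := fun g => by
      obtain ⟨z, hzZ, hz, hu⟩ := GmAct.exists_limit D g.2
      exact ⟨z, hzZ, hz, _, hu, (mul_inv_cancel_left z _).symm⟩
    choose z hzZ hz u hu hgu using hlim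
    have hzc : ∀ g : Pk, z g ∈ Subgroup.centralizer (T : Set (HopfPts.Pt k A)) := fun g => hcent _ fun x => by
      have h' : D.pt k (z g) = post cst (z g) := hzZ g
      have hT : Units.map (evR (k := k) (AlgHom.id k k) x : k[T;T⁻¹] →* k) (Tu k) = x := by
        ext1; simp [Tu, LaurentPolynomial.T, -LaurentPolynomial.single_eq_C_mul_T]
      have h1 := congrArg (post (A := A) (evR (k := k) (AlgHom.id k k) x)) h'
      rw [ofLam_pt, post_conj, hT, show post (evR (k := k) (AlgHom.id k k) x) (post cst (z g : Lib.Dyn85.Pt k A k)) =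
        (z g : Lib.Dyn85.Pt k A k) from pt_ext fun b => by simp [← single_eq_C, -LaurentPolynomial.single_eq_C_mul_T]] at h1
      calc lamPt (R := k) lam x * z g = conj lam x (z g) * lamPt (R := k) lam x :=
            (inv_mul_cancel_right (lamPt (R := k) lam x * z g) (lamPt (R := k) lam x)).symm
        _ = z g * lamPt (R := k) lam x := by rw [h1]
    let θ : Pk →* Subgroup.centralizer (T : Set (HopfPts.Pt k A)) :=
      MonoidHom.mk' (fun g => ⟨z g, hzc g⟩) fun g g' => by
        refine Subtype.ext ?_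
        obtain ⟨h₁, hh₁⟩ : ∃ h, post (toL (k := k) (R := k)) h = D.pt k (g : HopfPts.Pt k A) := g.2
        obtain ⟨h₂, hh₂⟩ : ∃ h, post (toL (k := k) (R := k)) h = D.pt k (g' : HopfPts.Pt k A) := g'.2
        have hh : post (toL (k := k) (R := k)) (h₁ * h₂) =
            D.pt k ((g : HopfPts.Pt k A) * (g' : HopfPts.Pt k A)) := by
          rw [map_mul, map_mul, hh₁, hh₂]
        have hlim : ∀ (g : Pk) (h : Lib.Dyn85.Pt k A (Polynomial k)),
            post (toL (k := k) (R := k)) h = D.pt k (g : HopfPts.Pt k A) → z g = post (ev0 (k := k) (R := k)) h :=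
          fun g h hh => pt_ext fun b => (hz g b).trans (GmAct.ev0_lift D hh b).symm
        show z (g * g') = z g * z g'
        rw [hlim g h₁ hh₁, hlim g' h₂ hh₂, hlim (g * g') _ hh, map_mul]
    refine Group.isSolvable_of_ker_le_range (Subgroup.inclusion (fun g hg => GmAct.U_le_P D hg : Uk ≤ Pk)) θ
      fun g hg => ?_
    refine ⟨⟨g, ?_⟩, Subtype.ext rfl⟩
    have h1 : z g = 1 := congrArg Subtype.val (MonoidHom.mem_ker.mp hg)
    rw [hgu g, h1, _root_.one_mul]
    exact hu g
  obtain ⟨n, π, hπ⟩ := Groth.Agent.S16480.result k A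
  let Spμ := Spec.map (CommRingCat.ofHom (mu (k := k) D.neg.JU D.JP).toRingHom)
  haveI hopen : IsOpenImmersion Spμ := isOpenImmersion_mu_field π hπ lam D.neg.rep_U D.rep_P
  let C := (A ⧸ D.neg.JU) ⊗[k] (A ⧸ D.JP)
  obtain ⟨φ₁, -, -⟩ := GmAct.exists_factor (D := D) D.neg.rep_U D.rep_P (R := k) (one_mem _) (one_mem _)
  haveI : Nontrivial C := φ₁.toRingHom.domain_nontrivial
  haveI : AlgebraicGeometry.IsIntegral (Spec (CommRingCat.of A)) := inferInstance
  haveI : Nonempty ↥(Spec (CommRingCat.of C)) := inferInstanceAs (Nonempty (PrimeSpectrum C))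
  haveI hCint : AlgebraicGeometry.IsIntegral (Spec (CommRingCat.of C)) := isIntegral_of_isOpenImmersion Spμ
  haveI : IsDomain C := (affine_isIntegral_iff (CommRingCat.of C)).mp hCint
  have hprime : ∀ (J : Ideal A) (ι : A ⧸ J →+* C), Function.Injective ι → J.IsPrime := fun J ι hι => by
    haveI : IsDomain (A ⧸ J) := hι.isDomain ι
    exact (Ideal.Quotient.isDomain_iff_prime J).mp inferInstance
  have hrepN : ∀ g : HopfPts.Pt k A, (∀ b ∈ D.neg.JU, g.ofConv b = 0) ↔ g ∈ Nk := fun g => D.neg.rep_U k g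
  have hrepP : ∀ g : HopfPts.Pt k A, (∀ b ∈ D.JP, g.ofConv b = 0) ↔ g ∈ Pk := fun g => D.rep_P k g
  have hinjP : Function.Injective (Algebra.TensorProduct.includeRight : A ⧸ D.JP →ₐ[k] C) := by
    let ret : C →ₐ[k] A ⧸ D.JP := Algebra.TensorProduct.lift ((Algebra.ofId k _).comp
      (Ideal.Quotient.liftₐ D.neg.JU (1 : HopfPts.Pt k A).ofConv ((hrepN 1).mpr Nk.one_mem))) (AlgHom.id k _)
      fun _ _ => Commute.all _ _
    exact Function.LeftInverse.injective (g := ret) fun y => (Algebra.TensorProduct.lift_tmul _ _ _ _ _).trans (by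
      rw [map_one]; first | exact _root_.one_mul y | exact _root_.mul_one y)
  have hinjN : Function.Injective (Algebra.TensorProduct.includeLeft : A ⧸ D.neg.JU →ₐ[k] C) := by
    let ret : C →ₐ[k] A ⧸ D.neg.JU := Algebra.TensorProduct.lift (AlgHom.id k _) ((Algebra.ofId k _).comp
      (Ideal.Quotient.liftₐ D.JP (1 : HopfPts.Pt k A).ofConv ((hrepP 1).mpr Pk.one_mem)))
      fun _ _ => Commute.all _ _
    exact Function.LeftInverse.injective (g := ret) fun y => (Algebra.TensorProduct.lift_tmul _ _ _ _ _).trans (by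
      rw [map_one]; first | exact _root_.one_mul y | exact _root_.mul_one y)
  obtain ⟨-, hNirr⟩ := sirr_of_prime (hprime _ _ hinjN) hrepN
  obtain ⟨hNcl, -⟩ := sirr_of_prime (hprime _ _ hinjN) hrepN
  obtain ⟨-, hPirr⟩ := sirr_of_prime (hprime _ _ hinjP) hrepP
  obtain ⟨c, hc⟩ := hB.abs Pk hPsol hPirr
  -- a basic open inside the cell
  obtain ⟨_, ⟨h, rfl⟩, hzD, hD⟩ := PrimeSpectrum.isTopologicalBasis_basic_opens.exists_subset_of_mem_open
    (Set.mem_range_self (Classical.arbitrary (PrimeSpectrum C))) Spμ.opensRange.isOpen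
  have hcell : ∀ χ : HopfPts.Pt k A, χ.ofConv h ≠ 0 → ∃ s ∈ Nk, ∃ p ∈ Pk, χ = s * p := fun χ hχ => by
    let q : Spec (CommRingCat.of k) ⟶ Spec (CommRingCat.of A) := Spec.map (CommRingCat.ofHom χ.ofConv.toRingHom)
    have hq : Set.range q ⊆ Set.range Spμ := by
      rintro _ ⟨o, rfl⟩
      exact hD fun hm => o.isPrime.ne_top (o.asIdeal.eq_top_of_isUnit_mem hm (Ne.isUnit hχ))
    let l := IsOpenImmersion.lift Spμ q hq
    obtain ⟨ψ, hψ⟩ := Spec.map_surjective l
    have hfac : CommRingCat.ofHom (mu (k := k) D.neg.JU D.JP).toRingHom ≫ ψ = CommRingCat.ofHom χ.ofConv.toRingHom := by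
      apply Spec.map_injective
      rw [Spec.map_comp, hψ]
      exact IsOpenImmersion.lift_fac Spμ q hq
    let φ : C →ₐ[k] k :=
      { ψ.hom with
        commutes' := fun r => by
          show ψ.hom (algebraMap k C r) = _
          rw [← (mu (k := k) D.neg.JU D.JP).commutes r]
          exact (congrArg (fun w => w.hom (algebraMap k A r)) hfac).trans (χ.ofConv.commutes r) }
    refine ⟨fstPt φ, GmAct.fstPt_mem D.neg.rep_U φ, sndPt φ, GmAct.sndPt_mem D.rep_P φ, ?_⟩
    refine Eq.trans ?_ (fst_mul_snd φ).symm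
    exact pt_ext fun b => (congrArg (fun w => w.hom b) hfac).symm
  have hh : h ≠ 0 := fun h0 => by
    refine (PrimeSpectrum.mem_basicOpen _ _).mp hzD ?_
    rw [h0]
    exact zero_mem _
  haveI := hNsol
  obtain ⟨S, hmem, hScl, hSirr, hSsol⟩ := Scheme'.conj_subgroup (HopfPts.D k A) Nk hNcl hNirr c⁻¹
  let h' : A := HopfPts.rcon c⁻¹ (HopfPts.lcon c h)
  have hh' : ∀ χ : HopfPts.Pt k A, χ.ofConv h' = (c * χ * c⁻¹).ofConv h := fun χ => by
    rw [HopfPts.apply_rcon, HopfPts.apply_lcon, mul_assoc]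
  refine ⟨S, h', hScl, hSirr, hSsol, fun h0 => hh (HopfPts.ev_injective k A (funext fun χ => ?_)), fun χ hχ => ?_⟩
  · have h1 := hh' (c⁻¹ * χ * c)
    rw [h0, map_zero, show c * (c⁻¹ * χ * c) * c⁻¹ = χ by group] at h1
    rw [map_zero]
    exact h1.symm
  · rw [hh'] at hχ
    obtain ⟨s, hs, p, hp, hsp⟩ := hcell _ hχ
    refine ⟨c⁻¹ * s * c, (hmem _).mpr ?_, c⁻¹ * p * c, hc p hp, ?_⟩
    · rw [_root_.inv_inv, show c * (c⁻¹ * s * c) * c⁻¹ = s by group]
      exact hs
    · rw [show c⁻¹ * s * c * (c⁻¹ * p * c) = c⁻¹ * (s * p) * c by group, ← hsp]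
      group

end Main

end Groth.Agent.H1.Obs.UFG
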