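import Groth.Agent.Lib.Dyn85.Solvable
import Groth.Agent.Lib.Dyn85.Sub
import Groth.Agent.H1.Classical.HopfPts
import Groth.Agent.H1.Classical.Torus.Centraliser
import Groth.Agent.H1.Classical.Torus.Diag
import Mathlib.RingTheory.Bialgebra.MonoidAlgebra
import Mathlib.LinearAlgebra.TensorProduct.Basis
import Mathlib.Algebra.Polynomial.Roots

/-!
# A one-parameter subgroup of a torus with the same centraliser
-/

universe u w

namespace Groth.Agent.H1.Obs.UFG

set_option linter.style.haveILetI false
set_option linter.unusedSectionVars false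

open LaurentPolynomial TensorProduct WithConv Module
open Groth.Agent.H1.Classical Groth.Agent.H1.Classical.Torus Groth.Agent.H1.Classical.Torus.Centraliser
open Groth.Agent.Lib.Dyn85

variable {k : Type u} [Field k]

/-- A Laurent polynomial is determined by its values at units. -/
theorem laurent_ext [IsAlgClosed k] {z z' : k[T;T⁻¹]}
    (h : ∀ x : kˣ, evR (k := k) (AlgHom.id k k) x z = evR (k := k) (AlgHom.id k k) x z') : z = z' := by
  classical
  rw [← sub_eq_zero]
  set d := z - z'
  have h0 : ∀ x : kˣ, evR (k := k) (AlgHom.id k k) x d = 0 := fun x => by rw [map_sub, h x, sub_self]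
  refine LaurentPolynomial.ext fun m => ?_
  rw [AddMonoidAlgebra.coeff_zero, Finsupp.zero_apply]
  by_cases hm : m ∈ d.coeff.support
  · refine Solv.coeff_eq_zero_of_forall_units d.coeff.support d.coeff (fun x => ?_) m hm
    have := h0 x
    rw [← AddMonoidAlgebra.sum_coeff_single d, map_finsuppSum] at this
    rw [← this]
    exact Finset.sum_congr rfl fun a _ => by
      show _ = evR (k := k) (AlgHom.id k k) x (AddMonoidAlgebra.single a (d.coeff a))
      rw [evR_single, AlgHom.id_apply, Units.val_zpow_eq_zpow_val, mul_comm]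
  · exact Finsupp.notMem_support_iff.mp hm

/-- An integral direction separating finitely many nonzero integer vectors. -/
theorem exists_direction {r : ℕ} (V : Finset (Fin r → ℤ)) (hV : ∀ v ∈ V, v ≠ 0) :
    ∃ m : Fin r → ℤ, ∀ v ∈ V, ∑ j, v j * m j ≠ 0 := by
  classical
  let P : (Fin r → ℤ) → Polynomial ℤ := fun v => ∑ j : Fin r, Polynomial.monomial (j : ℕ) (v j)
  have hP : ∏ v ∈ V, P v ≠ 0 := Finset.prod_ne_zero_iff.mpr fun v hv h => hV v hv (funext fun j => by
    have := congrArg (fun Q => Polynomial.coeff Q (j : ℕ)) h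
    simp only [P, Polynomial.finsetSum_coeff, Polynomial.coeff_monomial, Polynomial.coeff_zero, Fin.val_inj,
      Finset.sum_ite_eq', Finset.mem_univ, if_true] at this
    exact this)
  obtain ⟨N, hN⟩ : ∃ N : ℤ, (∏ v ∈ V, P v).eval N ≠ 0 := by
    by_contra h
    push Not at h
    exact hP (Polynomial.eq_zero_of_infinite_isRoot _ (Set.infinite_univ.mono fun x _ => h x))
  refine ⟨fun j => N ^ (j : ℕ), fun v hv h => hN ?_⟩
  rw [Polynomial.eval_prod]
  refine Finset.prod_eq_zero hv ?_
  simpa [P, Polynomial.eval_finsetSum, Polynomial.eval_monomial] using h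

variable [IsAlgClosed k] {A : Type u} [CommRing A] [HopfAlgebra k A] [Algebra.FiniteType k A] [IsReduced A]
  {W : Type w} [AddCommGroup W] [Module k W] [FiniteDimensional k W] {σ : Representation k (HopfPts.Pt k A) W}

/-- A torus has a one-parameter subgroup with the same centraliser, diagonal in a basis. -/
theorem exists_cochar (hσ : GenRep.Gen (HopfPts.D k A) σ) {S : Subgroup (HopfPts.Pt k A)}
    (hS : IsTor (HopfPts.D k A) S) :
    ∃ (e : Basis (Fin (finrank k W)) k W) (a : Fin (finrank k W) → ℤ) (lam : A →ₐc[k] k[T;T⁻¹]),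
      (∀ (x : kˣ) i, σ (lamPt (R := k) lam x) (e i) = ((x : k) ^ a i) • e i) ∧
      ∀ g : HopfPts.Pt k A, (∀ x : kˣ, lamPt (R := k) lam x * g = g * lamPt (R := k) lam x) →
        g ∈ Subgroup.centralizer (S : Set (HopfPts.Pt k A)) := by
  classical
  obtain ⟨e, he⟩ := exists_diag hS hσ.reg
  let DS := (HopfPts.D k A).restrict S hS.cl
  have hirr : DS.SIrr Set.univ :=
    ((HopfPts.D k A).sirr_restrict).mpr (by rw [Set.image_univ, Subtype.range_coe_subtype]; exact hS.irr)
  let cf : Fin (finrank k W) → HopfPts.Pt k A → k := fun i g => e.coord i (σ g (e i))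
  have hact : ∀ t ∈ S, ∀ i, σ t (e i) = cf i t • e i := fun t ht i => by
    obtain ⟨c, hc⟩ := he t ht i
    show σ t (e i) = e.coord i (σ t (e i)) • e i
    rw [hc, map_smul, Basis.coord_apply, Basis.repr_self, Finsupp.single_eq_same, smul_eq_mul, mul_one]
  have hcf1 : ∀ i, cf i 1 = 1 := fun i => by
    show e.coord i (σ 1 (e i)) = 1
    rw [map_one, End.one_apply, Basis.coord_apply, Basis.repr_self, Finsupp.single_eq_same]
  have hcfm : ∀ i, ∀ s ∈ S, ∀ t ∈ S, cf i (s * t) = cf i s * cf i t := fun i s hs t ht => by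
    show e.coord i (σ (s * t) (e i)) = _
    rw [map_mul, End.mul_apply, hact t ht, map_smul, map_smul, smul_eq_mul, mul_comm]
  have hcfu : ∀ i, ∀ s ∈ S, IsUnit (cf i s) := fun i s hs => IsUnit.of_mul_eq_one (cf i s⁻¹)
    (by rw [← hcfm i s hs _ (S.inv_mem hs), mul_inv_cancel, hcf1])
  let χ : Fin (finrank k W) → S →* kˣ := fun i =>
    { toFun := fun s => (hcfu i s s.2).unit
      map_one' := Units.ext (hcf1 i)
      map_mul' := fun s t => Units.ext (hcfm i s s.2 t t.2) }
  have hχreg : ∀ i, Diag.RegChar DS (χ i) := fun i =>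
    ⟨cf i, hσ.reg (e i) (e.coord i), rfl⟩
  obtain ⟨r, ψ, hψ⟩ := Diag.exists_torusChars hirr χ hχreg
  choose E hE using hψ.mono
  obtain ⟨m, hm⟩ := exists_direction
    (((Finset.univ : Finset (Fin (finrank k W) × Fin (finrank k W))).image fun p => E p.1 - E p.2).filter (· ≠ 0))
    fun v hv => (Finset.mem_filter.mp hv).2
  let a : Fin (finrank k W) → ℤ := fun i => ∑ j, E i j * m j
  choose g hg using fun x : kˣ => Diag.surjective_of_indep hirr ψ hψ.reg hψ.indep (fun j => x ^ m j)
  have hgχ : ∀ x i, χ i (g x) = x ^ a i := fun x i => by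
    rw [hE i, MonoidHom.finsetProd_apply]
    have : ∀ j, (ψ j ^ E i j) (g x) = x ^ (E i j * m j) := fun j => by
      rw [MonoidHom.zpow_apply, hg, ← zpow_mul, mul_comm]
    rw [Finset.prod_congr rfl fun j _ => this j]
    exact (map_prod (zpowersHom kˣ x) (fun j => Multiplicative.ofAdd (E i j * m j)) Finset.univ).symm.trans
      (by rw [← ofAdd_sum]; rfl)
  have hgact : ∀ x i, σ (g x : HopfPts.Pt k A) (e i) = ((x : k) ^ a i) • e i := fun x i => by
    rw [hact _ (g x).2, ← Units.val_zpow_eq_zpow_val, ← hgχ]
    rfl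
  have hgmul : ∀ x y, (g (x * y) : HopfPts.Pt k A) = g x * g y := fun x y => hσ.faith (e.ext fun i => by
    rw [hgact, map_mul, End.mul_apply, hgact, map_smul, hgact, smul_smul, Units.val_mul, mul_zpow, mul_comm])
  have hg1 : (g 1 : HopfPts.Pt k A) = 1 := hσ.faith (e.ext fun i => by
    rw [hgact, map_one, End.one_apply, Units.val_one, one_zpow, one_smul])
  let L : k[T;T⁻¹] →ₐ[k] (kˣ → k) := AlgHom.pi fun x => evR (k := k) (AlgHom.id k k) x
  have hL : Function.Injective L := fun z z' h => laurent_ext fun x => congrFun h x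
  let pb : (HopfPts.Pt k A → k) →ₐ[k] (kˣ → k) :=
    { toFun := fun f x => f (g x)
      map_one' := rfl
      map_mul' := fun _ _ => rfl
      map_zero' := rfl
      map_add' := fun _ _ => rfl
      commutes' := fun _ => rfl }
  have hrange : ∀ f ∈ (HopfPts.D k A).R, pb f ∈ L.range := fun f hf => by
    have hle : (HopfPts.D k A).R ≤ L.range.comap pb := hσ.gen.trans (Algebra.adjoin_le (by
      rintro _ ⟨v, l, rfl⟩
      refine ⟨∑ i, AddMonoidAlgebra.single (a i) (e.repr v i * l (e i)), funext fun x => ?_⟩
      show evR (k := k) (AlgHom.id k k) x _ = l (σ (g x : HopfPts.Pt k A) v)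
      rw [map_sum]
      conv_rhs => rw [← e.sum_repr v, map_sum, map_sum]
      refine Finset.sum_congr rfl fun i _ => ?_
      rw [evR_single, AlgHom.id_apply, map_smul, hgact, map_smul, map_smul, smul_eq_mul, smul_eq_mul,
        Units.val_zpow_eq_zpow_val]
      ring))
    exact hle hf
  let f₀ : A →ₐ[k] k[T;T⁻¹] := (AlgEquiv.ofInjective L hL).symm.toAlgHom.comp
    ((pb.comp (HopfPts.ev k A)).codRestrict L.range fun z => hrange _ ⟨z, rfl⟩)
  have hf₀ : ∀ (z : A) (x : kˣ), evR (k := k) (AlgHom.id k k) x (f₀ z) = (g x : HopfPts.Pt k A).ofConv z := fun z x => by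
    have h := congrArg Subtype.val ((AlgEquiv.ofInjective L hL).apply_symm_apply
      ((pb.comp (HopfPts.ev k A)).codRestrict L.range (fun z => hrange _ ⟨z, rfl⟩) z))
    exact congrFun h x
  have hcounit : ∀ z : k[T;T⁻¹], Coalgebra.counit (R := k) z = evR (k := k) (AlgHom.id k k) 1 z := fun z => by
    induction z using AddMonoidAlgebra.induction_linear with
    | zero => simp
    | add x y hx hy => simp [hx, hy]
    | single n c => simp [-LaurentPolynomial.single_eq_C_mul_T]
  let lam : A →ₐc[k] k[T;T⁻¹] := BialgHom.ofAlgHom f₀ (by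
      refine AlgHom.ext fun z => ?_
      show Coalgebra.counit (R := k) (f₀ z) = Coalgebra.counit (R := k) z
      rw [hcounit, hf₀, hg1]
      exact AlgHom.convOne_apply z) (by
      refine AlgHom.ext fun z => ?_
      let Φ : k[T;T⁻¹] ⊗[k] k[T;T⁻¹] →ₐ[k] (kˣ × kˣ → k) := AlgHom.pi fun p =>
        Algebra.TensorProduct.lift (evR (k := k) (AlgHom.id k k) p.1) (evR (k := k) (AlgHom.id k k) p.2)
          fun _ _ => Commute.all _ _
      have hΦ : ∀ w, Φ w = 0 → w = 0 := by
        intro w hw
        let b := AddMonoidAlgebra.basis ℤ k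
        have hb : ∀ n, b n = AddMonoidAlgebra.single n (1 : k) := fun n => by simp [b]
        let B := b.tensorProduct b
        refine B.repr.injective (Finsupp.ext fun p => ?_)
        rw [map_zero, Finsupp.zero_apply]
        let c := B.repr w
        have hsum : ∀ x y : kˣ, ∑ q ∈ c.support, c q * ((x : k) ^ q.1 * (y : k) ^ q.2) = 0 := fun x y => by
          have h1 := congrFun hw (x, y)
          rw [← B.linearCombination_repr w, Finsupp.linearCombination_apply, map_finsuppSum] at h1
          simp only [Finsupp.sum, Finset.sum_apply, map_smul, Pi.smul_apply, Pi.zero_apply, B,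
            Basis.tensorProduct_apply', hb, Φ, AlgHom.pi_apply, Algebra.TensorProduct.lift_tmul, evR_single,
            AlgHom.id_apply, one_mul, Units.val_zpow_eq_zpow_val, smul_eq_mul] at h1
          exact h1
        by_cases hp : p ∈ c.support
        swap
        · exact Finsupp.notMem_support_iff.mp hp
        have h2 : ∀ y : kˣ, ∑ q ∈ c.support.filter (fun q => q.1 = p.1), c q * (y : k) ^ q.2 = 0 := fun y => by
          refine Solv.coeff_eq_zero_of_forall_units (c.support.image Prod.fst)
            (fun i => ∑ q ∈ c.support.filter (fun q => q.1 = i), c q * (y : k) ^ q.2) (fun x => ?_) p.1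
            (Finset.mem_image_of_mem _ hp)
          rw [← hsum x y, ← Finset.sum_fiberwise_of_maps_to (g := Prod.fst) (t := c.support.image Prod.fst)
            fun q hq => Finset.mem_image_of_mem _ hq]
          refine Finset.sum_congr rfl fun i _ => ?_
          rw [Finset.mul_sum]
          exact Finset.sum_congr rfl fun q hq => by rw [(Finset.mem_filter.mp hq).2]; ring
        have h3 := Solv.coeff_eq_zero_of_forall_units ((c.support.filter (fun q => q.1 = p.1)).image Prod.snd)
          (fun j => c (p.1, j)) (fun y => by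
            rw [← h2 y, Finset.sum_image fun q hq q' hq' h => Prod.ext
              ((Finset.mem_filter.mp (Finset.mem_coe.mp hq)).2.trans (Finset.mem_filter.mp (Finset.mem_coe.mp hq')).2.symm) h]
            refine Finset.sum_congr rfl fun q hq => ?_
            rw [← (Finset.mem_filter.mp hq).2]
            ring) p.2 (Finset.mem_image.mpr ⟨p, Finset.mem_filter.mpr ⟨hp, rfl⟩, rfl⟩)
        exact h3
      rw [← sub_eq_zero]
      refine hΦ _ (funext fun p => ?_)
      rw [map_sub, Pi.sub_apply, Pi.zero_apply, sub_eq_zero]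
      have hR : ∀ w : k[T;T⁻¹], Φ (Coalgebra.comul (R := k) w) p = evR (k := k) (AlgHom.id k k) (p.1 * p.2) w := fun w => by
        induction w using AddMonoidAlgebra.induction_linear with
        | zero => simp
        | add x y hx hy => simp only [map_add, Pi.add_apply, hx, hy]
        | single n c =>
          rw [AddMonoidAlgebra.comul_single]
          simp [Φ, -LaurentPolynomial.single_eq_C_mul_T, mul_zpow, mul_assoc, mul_comm, mul_left_comm]
      show Φ (Algebra.TensorProduct.map f₀ f₀ (Coalgebra.comul (R := k) z)) p = Φ (Coalgebra.comul (R := k) (f₀ z)) p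
      rw [hR, hf₀, hgmul, AlgHom.convMul_apply]
      induction Coalgebra.comul (R := k) z using TensorProduct.induction_on with
      | zero => simp
      | add x y hx hy => simp only [map_add, Pi.add_apply, hx, hy]
      | tmul x y => simp [Φ, hf₀])
  have hlam : ∀ x : kˣ, lamPt (R := k) lam x = g x := fun x => pt_ext fun z => hf₀ z x
  refine ⟨e, a, lam, fun x i => by rw [hlam]; exact hgact x i, fun h hh => ?_⟩
  rw [Subgroup.mem_centralizer_iff]
  intro t ht
  refine hσ.faith (e.ext fun i => e.repr.injective (Finsupp.ext fun j => ?_))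
  have hdiag : ∀ s : HopfPts.Pt k A, ∀ c : Fin (finrank k W) → k, (∀ l, σ s (e l) = c l • e l) →
      ∀ v, e.repr (σ s v) j = c j * e.repr v j := fun s c hc v => by
    conv_lhs => rw [← e.sum_repr v, map_sum, map_sum, Finsupp.finsetSum_apply]
    rw [Finset.sum_eq_single j]
    · rw [map_smul, hc, map_smul, map_smul, Basis.repr_self, Finsupp.smul_apply, Finsupp.smul_apply,
        Finsupp.single_eq_same, smul_eq_mul, smul_eq_mul]
      ring
    · intro l _ hl
      rw [map_smul, hc, map_smul, map_smul, Basis.repr_self, Finsupp.smul_apply, Finsupp.smul_apply,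
        Finsupp.single_eq_of_ne (Ne.symm hl), smul_zero, smul_zero]
    · exact fun h => absurd (Finset.mem_univ j) h
  rw [map_mul, map_mul, End.mul_apply, End.mul_apply, hact t ht, map_smul, map_smul, Finsupp.smul_apply, smul_eq_mul,
    hdiag t _ (hact t ht)]
  by_cases hij : a i = a j
  · have hE' : E i = E j := by
      by_contra hne
      refine hm (E i - E j) (Finset.mem_filter.mpr ⟨Finset.mem_image.mpr ⟨(i, j), Finset.mem_univ _, rfl⟩,
        sub_ne_zero.mpr hne⟩) ?_
      simp only [Pi.sub_apply, sub_mul, Finset.sum_sub_distrib]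
      exact sub_eq_zero.mpr hij
    have : cf i t = cf j t := congrArg (fun φ : S →* kˣ => (φ ⟨t, ht⟩ : k)) (show χ i = χ j by rw [hE i, hE j, hE'])
    rw [this]
  · obtain ⟨x, hx⟩ := Solv.exists_zpow_ne (K := k) hij
    have h1 := congrArg (fun y => e.repr (σ y (e i)) j) (hh x)
    simp only [hlam, map_mul, End.mul_apply, hgact, map_smul, Finsupp.smul_apply, smul_eq_mul,
      hdiag _ _ (hgact x)] at h1
    rw [mul_eq_mul_right_iff] at h1
    rw [h1.resolve_left (Ne.symm hx), mul_zero, mul_zero]

end Groth.Agent.H1.Obs.UFG
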