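import Groth.Agent.H1.Obs.UFG.Main
import Groth.Agent.H1.Obs.Open
import Groth.Agent.H1.Obs.Solvable
import Groth.Agent.H1.Obs.ReductiveObs
import Groth.Agent.H1.Classical.CharRadScheme

/-!
# The invariants of a maximal unipotent subgroup are finitely generated
-/

universe u

open CategoryTheory Limits MonoidalCategory CartesianMonoidalCategory MonObj GrpObj AlgebraicGeometry
open scoped TensorProduct

namespace Groth.Agent.H1.Obs.UFG

set_option linter.style.haveILetI false
set_option linter.unusedSectionVars false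

open Groth.Agent.Lib.RedPts Groth.Agent.Lib.RedPts.Points Classical Classical.Scheme' Groth.Agent.H1.RInv Groth.Agent.Lib.GrpQ

attribute [local instance] baseAlgebra _root_.Classical.propDecidable

variable {k : Type u} [Field k] [IsAlgClosed k]
  {G B U : Over (Spec (CommRingCat.of k))} [GrpObj G] [GrpObj B] [GrpObj U] [IsAffine G.left] [Smooth G.hom]

theorem isObservableIn_radical {iB : B ⟶ G} (hB : Red.IsBorelOver k iB) {u : U ⟶ B} (hU : Par.IsUnipotentRadical u) :
    AGF.IsObservableIn k (u ≫ iB) := by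
  obtain ⟨hm, hA, hS, hC, hN⟩ := props_of_radical hB hU
  haveI := hm
  haveI := hA
  haveI := hS
  haveI := hC
  haveI := hB.2.1
  haveI := hU.2.1
  haveI : IsClosedImmersion (u ≫ iB).left := by rw [Over.comp_left]; infer_instance
  refine observable_of_charCrit (u ≫ iB) fun χ hχ hw => ?_
  haveI := hχ
  have h1 : χ = 1 := CharRad.char_eq_one_of_noTorsion hN χ
  have h2 : χ⁻¹ = χ := by rw [h1, inv_one]
  rwa [h2]

open Groth.Agent.H63.GrpIdentity in
/-- A Borel subgroup lies in the identity component, where it is a Borel subgroup. -/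
theorem exists_borel_identity {iB : B ⟶ G} (hB : Red.IsBorelOver k iB) :
    letI := idGrp G
    ∃ b : B ⟶ idObj G, b ≫ idHom G = iB ∧ Red.IsBorelOver k b := by
  obtain ⟨hGo, hGc, hGs, hGconn⟩ := identity_props G
  obtain ⟨hm, hcl, hsm, hconn, hsol, hmax⟩ := hB
  letI := idGrp G
  haveI := isMonHom_idHom G
  haveI := hm
  haveI := hconn
  obtain ⟨b, hb⟩ := exists_lift G iB fun t => by
    rw [← range_idIncl]
    have hclopen : IsClopen (Set.range (idHom G).left) :=
      ⟨(idHom G).left.isClosedEmbedding.isClosed_range, (idHom G).left.isOpenEmbedding.isOpen_range⟩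
    refine (isPreconnected_range iB.left.continuous).subset_isClopen hclopen
      ⟨η[G].left (IsLocalRing.closedPoint k), ⟨η[B].left (IsLocalRing.closedPoint k), ?_⟩,
        η[idObj G].left (IsLocalRing.closedPoint k), ?_⟩ ⟨t, rfl⟩
    · exact congrArg (fun φ : 𝟙_ (Over (Spec (CommRingCat.of k))) ⟶ G => φ.left (IsLocalRing.closedPoint k))
        (IsMonHom.one_hom (f := iB))
    · exact congrArg (fun φ : 𝟙_ (Over (Spec (CommRingCat.of k))) ⟶ G => φ.left (IsLocalRing.closedPoint k))
        (IsMonHom.one_hom (f := idHom G))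
  haveI : IsMonHom b :=
    { one_hom := by rw [← cancel_mono (idHom G), Category.assoc, hb, IsMonHom.one_hom, IsMonHom.one_hom]
      mul_hom := by
        rw [← cancel_mono (idHom G), Category.assoc, hb, IsMonHom.mul_hom, Category.assoc, IsMonHom.mul_hom (idHom G),
          MonoidalCategory.tensorHom_comp_tensorHom_assoc, hb] }
  haveI : IsClosedImmersion (b.left ≫ (idHom G).left) := by
    rw [← Over.comp_left, hb]
    exact hcl
  refine ⟨b, hb, inferInstance, IsClosedImmersion.of_comp b.left (idHom G).left, hsm, hconn, hsol,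
    fun B' _ i' _ f hi' hs' hc' hsol' hf => ?_⟩
  haveI := hi'
  exact hmax B' (i' ≫ idHom G) f (by rw [Over.comp_left]; infer_instance) hs' hc' hsol'
    (by rw [← Category.assoc, hf, hb])

/-- The invariants of the unipotent radical of a Borel subgroup are finitely generated. -/
theorem fg_of_identity {G₀ : Over (Spec (CommRingCat.of k))} [GrpObj G₀] [IsAffine G₀.left] [Smooth G₀.hom]
    [IsAffine U.left] [Smooth U.hom]
    (j : G₀ ⟶ G) [IsMonHom j] [IsOpenImmersion j.left] (v : U ⟶ G₀) (h₀ : (invAlg (G := G₀) v).FG) :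
    (invAlg (G := G) (v ≫ j)).FG := by
  classical
  haveI : IsClosedImmersion j.left := isClosedImmersion_of_open j
  haveI : IsReduced G.left := Groth.Agent.Lib.GrpSch.isReduced_of_smooth_field G.hom
  haveI : IsReduced G₀.left := Groth.Agent.Lib.GrpSch.isReduced_of_smooth_field G₀.hom
  haveI : IsNoetherianRing Γ(G.left, ⊤) := RInv.isNoetherianRing_Γ (G := G)
  obtain ⟨e, hei, he⟩ := exists_indicator j
  have he_inv : Inv (v ≫ j) e := fun x h => by
    by_cases hx : ∃ z : P G₀, z ≫ j = x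
    · rw [((he x).1).mpr hx, ((he _).1).mpr]
      obtain ⟨z, rfl⟩ := hx
      exact ⟨z * (h ≫ v), by rw [MonObj.mul_comp, Category.assoc]⟩
    · rw [((he x).2).mpr hx, ((he _).2).mpr]
      rintro ⟨z, hz⟩
      exact hx ⟨z * (h ≫ v)⁻¹, by rw [MonObj.mul_comp, hz, GrpObj.inv_comp, Category.assoc, mul_inv_cancel_right]⟩
  -- lifts of invariants
  have hlift : ∀ f₀ : Γ(G₀.left, ⊤), Inv v f₀ → ∃ F, Inv (v ≫ j) F ∧ restr j F = f₀ := fun f₀ hf₀ => by
    obtain ⟨f', hf'⟩ := j.left.app_surjective ⊤ (isAffineOpen_top G.left) f₀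
    have hz : ∀ z : P G₀, ev (z ≫ j) f' = ev z f₀ := fun z => by
      rw [← hf', ev_comp]
      rfl
    refine ⟨e * f', fun x h => ?_, ext_points fun z => ?_⟩
    · by_cases hx : ∃ z : P G₀, z ≫ j = x
      · obtain ⟨z, rfl⟩ := hx
        rw [map_mul, map_mul, show (z ≫ j) * (h ≫ v ≫ j) = (z * (h ≫ v)) ≫ j by rw [MonObj.mul_comp, Category.assoc],
          ((he _).1).mpr ⟨_, rfl⟩, ((he (z ≫ j)).1).mpr ⟨_, rfl⟩, hz, hz, hf₀]
      · have h0 : ev (x * (h ≫ v ≫ j)) e = 0 := by rw [he_inv, ((he x).2).mpr hx]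
        rw [map_mul, map_mul, h0, ((he x).2).mpr hx, zero_mul, zero_mul]
    · rw [ev_restr, map_mul, ((he _).1).mpr ⟨z, rfl⟩, _root_.one_mul, hz]
  obtain ⟨T, hT⟩ := h₀
  have hTinv : ∀ t ∈ T, Inv v t := fun t ht => by
    have : t ∈ invAlg (G := G₀) v := hT ▸ Algebra.subset_adjoin (Finset.mem_coe.mpr ht)
    exact this
  choose L hL hL' using fun t : T => hlift t.1 (hTinv t.1 t.2)
  -- translates of the indicator
  haveI := finite_idempotents Γ(G.left, ⊤)
  haveI := Fintype.ofFinite {e : Γ(G.left, ⊤) // IsIdempotentElem e}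
  let E : Finset Γ(G.left, ⊤) := (Finset.univ.filter fun a : {e : Γ(G.left, ⊤) // IsIdempotentElem e} =>
    ∃ g : P G, ltr g e = a.1).image Subtype.val
  have hEmem : ∀ g : P G, ltr g e ∈ E := fun g => Finset.mem_image.mpr
    ⟨⟨ltr g e, hei.map (ltr g)⟩, Finset.mem_filter.mpr ⟨Finset.mem_univ _, g, rfl⟩, rfl⟩
  have hEex : ∀ a ∈ E, ∃ g : P G, ltr g e = a := fun a ha => by
    obtain ⟨b, hb, rfl⟩ := Finset.mem_image.mp ha
    exact (Finset.mem_filter.mp hb).2
  choose rep hrep using hEex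
  let gens : Finset Γ(G.left, ⊤) := E ∪ E.attach.biUnion fun a => Finset.univ.image fun t : T => ltr (rep a.1 a.2) (L t)
  refine ⟨gens, le_antisymm (Algebra.adjoin_le fun w hw => ?_) fun f hf => ?_⟩
  · simp only [gens, Finset.coe_union, Set.mem_union, Finset.mem_coe, Finset.mem_biUnion, Finset.mem_image] at hw
    rcases hw with hw | ⟨a, -, t, -, rfl⟩
    · rw [← hrep w hw]
      exact he_inv.ltr _ _
    · exact (hL t).ltr _ _
  set S := Algebra.adjoin k (gens : Set Γ(G.left, ⊤))
  have hES : ∀ a ∈ E, a ∈ S := fun a ha => Algebra.subset_adjoin (Finset.mem_coe.mpr (Finset.mem_union_left _ ha))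
  have hfE : ∀ a ∈ E, f * a ∈ S := fun a ha => by
    let g := rep a ha
    have hφ : restr j (ltr g⁻¹ f) ∈ invAlg (G := G₀) v := fun z h => by
      rw [ev_restr, ev_restr, MonObj.mul_comp, Category.assoc]
      exact hf.ltr _ g⁻¹ _ _
    rw [← hT] at hφ
    have hsub : (T : Set Γ(G₀.left, ⊤)) ⊆ restr j '' Set.range L := fun t ht =>
      ⟨L ⟨t, ht⟩, ⟨_, rfl⟩, hL' ⟨t, ht⟩⟩
    have h1 := Algebra.adjoin_mono hsub hφ
    rw [← AlgHom.map_adjoin] at h1
    obtain ⟨p, hp, hpe⟩ := h1
    have h2 : ltr g p ∈ S := by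
      have h3 : ltr g p ∈ (Algebra.adjoin k (Set.range L)).map (ltr g) := ⟨p, hp, rfl⟩
      rw [AlgHom.map_adjoin] at h3
      refine Algebra.adjoin_mono ?_ h3
      rintro _ ⟨_, ⟨t, rfl⟩, rfl⟩
      exact Finset.mem_coe.mpr (Finset.mem_union_right _ (Finset.mem_biUnion.mpr
        ⟨⟨a, ha⟩, Finset.mem_attach _ _, Finset.mem_image.mpr ⟨t, Finset.mem_univ _, rfl⟩⟩))
    have h4 : f * a = ltr g p * a := ext_points fun x => by
      rw [← hrep a ha, map_mul, map_mul, ev_ltr, ev_ltr]
      by_cases hx : ∃ z : P G₀, z ≫ j = g * x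
      · obtain ⟨z, hz⟩ := hx
        have h5 := congrArg (ev z) hpe
        change ev z (restr j p) = _ at h5
        rw [ev_restr, ev_restr, ev_ltr, hz, inv_mul_cancel_left] at h5
        rw [h5]
      · rw [((he _).2).mpr hx, mul_zero, mul_zero]
    rw [h4]
    exact S.mul_mem h2 (hES a ha)
  have hprod : ∀ E' : Finset Γ(G.left, ⊤), E' ⊆ E → f * (1 - ∏ a ∈ E', (1 - a)) ∈ S := fun E' => by
    induction E' using Finset.induction_on with
    | empty => intro; rw [Finset.prod_empty, sub_self, mul_zero]; exact S.zero_mem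
    | insert a E' ha ih =>
      intro hsub
      have haE := hsub (Finset.mem_insert_self _ _)
      rw [Finset.prod_insert ha,
        show f * (1 - (1 - a) * ∏ b ∈ E', (1 - b)) = f * a + (1 - a) * (f * (1 - ∏ b ∈ E', (1 - b))) by ring]
      exact S.add_mem (hfE a haE) (S.mul_mem (S.sub_mem S.one_mem (hES a haE))
        (ih fun b hb => hsub (Finset.mem_insert_of_mem hb)))
  have hzero : ∏ a ∈ E, (1 - a) = 0 := ext_points fun x => by
    rw [map_prod, map_zero]
    refine Finset.prod_eq_zero (hEmem x⁻¹) ?_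
    rw [map_sub, map_one, ev_ltr, inv_mul_cancel, ((he 1).1).mpr ⟨1, MonObj.one_comp _⟩, sub_self]
  simpa [hzero] using hprod E subset_rfl

open Groth.Agent.H63.GrpIdentity in
/-- The invariants of the unipotent radical of a Borel subgroup are finitely generated. -/
theorem fg_invAlg {iB : B ⟶ G} (hB : Red.IsBorelOver k iB) {u : U ⟶ B} (hU : Par.IsUnipotentRadical u) :
    (invAlg (G := G) (u ≫ iB)).FG := by
  obtain ⟨hGo, hGc, hGs, hGconn⟩ := identity_props G
  letI := idGrp G
  haveI := isMonHom_idHom G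
  haveI := hGo
  haveI := hGc
  haveI := hGs
  haveI := hGconn
  haveI : IsAffine (idObj G).left := isAffine_of_isAffineHom (idHom G).left
  obtain ⟨b, hb, hbB⟩ := exists_borel_identity hB
  obtain ⟨-, hA, hS, -, -⟩ := props_of_radical hB hU
  haveI := hA
  haveI := hS
  have h := fg_of_identity (idHom G) (u ≫ b) (fg_connected hbB hU)
  rwa [Category.assoc, hb] at h

theorem subringFGOver_invariants {iB : B ⟶ G} (hB : Red.IsBorelOver k iB) {u : U ⟶ B} (hU : Par.IsUnipotentRadical u) :
    AGF.SubringFGOver k G (AGF.rTransInv (u ≫ iB)) := by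
  obtain ⟨-, hA, hS, -, -⟩ := props_of_radical hB hU
  haveI := hA
  haveI := hS
  obtain ⟨s, hs⟩ := fg_invAlg hB hU
  refine ⟨s, fun f hf => (isRTransInv_iff (u ≫ iB) f).mpr ?_, fun f hf => ?_⟩
  · have : f ∈ invAlg (G := G) (u ≫ iB) := hs ▸ Algebra.subset_adjoin hf
    exact this
  · have h1 : f ∈ invAlg (G := G) (u ≫ iB) := (isRTransInv_iff (u ≫ iB) f).mp hf
    rw [← hs, Algebra.mem_adjoin_iff] at h1
    exact h1

end Groth.Agent.H1.Obs.UFG
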