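import Groth.Agent.Lib.RefHull.NormalAlg
import Mathlib.RingTheory.DiscreteValuationRing.TFAE
import Mathlib.RingTheory.Ideal.MinimalPrime.Noetherian
import Mathlib.RingTheory.Localization.AtPrime.Basic
import Mathlib.RingTheory.Localization.Integer
import Mathlib.Order.WellQuasiOrder
import Mathlib.Order.WellFoundedSet

/-!
# Divisor monoids of functions with bounded support

A set of elements of a normal Noetherian domain which divide powers of a fixed element, closed under exact division, is
generated up to units by finitely many of its members.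
-/

universe u

namespace Groth.Agent.H1.Obs.UFG

variable {A : Type u} [CommRing A] [IsDomain A] [IsNoetherianRing A] [IsIntegrallyClosed A]

/-- Localisations of a normal noetherian domain at height one primes are discrete valuation rings. -/
theorem isDVR_atPrime (p : Ideal A) [p.IsPrime] (hp : p.height = 1) :
    IsDiscreteValuationRing (Localization.AtPrime p) := by
  set L := Localization.AtPrime p
  have hp0 : p ≠ ⊥ := fun h => by
    rw [Ideal.height_eq_zero_iff_eq_bot.mpr h] at hp
    exact zero_ne_one hp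
  haveI : IsNoetherianRing L := IsLocalization.isNoetherianRing p.primeCompl L inferInstance
  haveI : IsIntegrallyClosed L := isIntegrallyClosed_of_isLocalization L p.primeCompl p.primeCompl_le_nonZeroDivisors
  have hmax : IsLocalRing.maximalIdeal L ≠ ⊥ := by
    intro h
    refine hp0 (eq_bot_iff.mpr fun x hx => ?_)
    have : algebraMap A L x ∈ IsLocalRing.maximalIdeal L := (IsLocalization.AtPrime.to_map_mem_maximal_iff L p x).mpr hx
    rw [h, Ideal.mem_bot] at this
    exact IsLocalization.injective L p.primeCompl_le_nonZeroDivisors (this.trans (map_zero _).symm)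
  have hf : ¬ IsField L := fun h => hmax (IsLocalRing.isField_iff_maximalIdeal_eq.mp h)
  have htfae : IsDiscreteValuationRing L ↔ IsIntegrallyClosed L ∧ ∃! P : Ideal L, P ≠ ⊥ ∧ P.IsPrime :=
    (IsDiscreteValuationRing.TFAE L hf).out 0 3
  refine htfae.mpr ⟨inferInstance, IsLocalRing.maximalIdeal L, ⟨hmax, inferInstance⟩, fun Q hQ => ?_⟩
  haveI := hQ.2
  have hle : Q.comap (algebraMap A L) ≤ p := fun x hx => by
    by_contra hxp
    exact hQ.2.ne_top (Q.eq_top_of_isUnit_mem hx (IsLocalization.map_units L (⟨x, hxp⟩ : p.primeCompl)))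
  have hne : Q.comap (algebraMap A L) ≠ ⊥ := fun h => hQ.1 (by
    rw [← IsLocalization.map_under p.primeCompl L Q]
    show Ideal.map _ (Q.comap (algebraMap A L)) = ⊥
    rw [h, Ideal.map_bot])
  have heq : Q.comap (algebraMap A L) = p := by
    by_contra h
    have hlt := Ideal.height_strict_mono_of_isPrime (lt_of_le_of_ne hle h)
    rw [hp, Order.lt_one_iff] at hlt
    exact hne (Ideal.height_eq_zero_iff_eq_bot.mp hlt)
  refine le_antisymm (IsLocalRing.le_maximalIdeal hQ.2.ne_top) fun z hz => ?_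
  obtain ⟨⟨x, s⟩, hxs⟩ := IsLocalization.surj p.primeCompl z
  have hx : x ∈ p := (IsLocalization.AtPrime.to_map_mem_maximal_iff L p x).mp (by
    rw [← hxs]; exact Ideal.mul_mem_right _ _ hz)
  rw [← heq, Ideal.mem_comap, ← hxs] at hx
  exact (hQ.2.mem_or_mem hx).resolve_right fun h => hQ.2.ne_top (Q.eq_top_of_isUnit_mem h (IsLocalization.map_units L s))

variable {h : A} (h0 : h ≠ 0)

include h0 in
/-- The height one primes containing a nonzero element are minimal over it. -/
theorem mem_minimalPrimes_of_height_one (p : Ideal A) [hp : p.IsPrime] (h1 : p.height = 1) (hmem : h ∈ p) :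
    p ∈ (Ideal.span {h}).minimalPrimes := by
  refine ⟨⟨hp, by rwa [Ideal.span_singleton_le_iff_mem]⟩, fun q ⟨hq, hhq⟩ hqp => ?_⟩
  haveI := hq
  by_contra hne
  have hlt := Ideal.height_strict_mono_of_isPrime (lt_of_le_not_ge hqp hne)
  rw [h1, Order.lt_one_iff] at hlt
  have hq0 := Ideal.height_eq_zero_iff_eq_bot.mp hlt
  rw [hq0, Ideal.span_singleton_le_iff_mem, Ideal.mem_bot] at hhq
  exact h0 hhq

include h0 in
/-- Elements dividing powers of `h` are generated, under exact division, by finitely many. -/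
theorem exists_divGens (Φ : Set A) (hΦ : ∀ f ∈ Φ, ∃ n, f ∣ h ^ n)
    (hdiv : ∀ f ∈ Φ, ∀ g ∈ Φ, ∀ q, f = g * q → q ∈ Φ) :
    ∃ F : Finset A, ↑F ⊆ Φ ∧ ∀ f ∈ Φ, ∃ l : List A, (∀ x ∈ l, x ∈ F) ∧ ∃ u ∈ Φ, IsUnit u ∧ f = l.prod * u := by
  classical
  let P := {p : Ideal A // p ∈ (Ideal.span {h}).minimalPrimes ∧ p.height = 1}
  haveI : Finite P := (((Ideal.span {h}).finite_minimalPrimes_of_isNoetherianRing).subset
    (fun p hp => hp.1) : {p : Ideal A | p ∈ (Ideal.span {h}).minimalPrimes ∧ p.height = 1}.Finite).to_subtype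
  haveI : Fintype P := Fintype.ofFinite P
  haveI hprime : ∀ p : P, p.1.IsPrime := fun p => p.2.1.1.1
  haveI hdvr : ∀ p : P, IsDiscreteValuationRing (Localization.AtPrime p.1) := fun p => isDVR_atPrime p.1 p.2.2
  have hne : ∀ f ∈ Φ, f ≠ 0 := fun f hf hf0 => by
    obtain ⟨n, hn⟩ := hΦ f hf
    rw [hf0, zero_dvd_iff] at hn
    exact pow_ne_zero n h0 hn
  let v : (p : P) → A → ℕ := fun p f =>
    (IsDiscreteValuationRing.addVal (Localization.AtPrime p.1) (algebraMap A _ f)).toNat
  have hinj : ∀ p : P, Function.Injective (algebraMap A (Localization.AtPrime p.1)) := fun p =>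
    IsLocalization.injective _ p.1.primeCompl_le_nonZeroDivisors
  have hval : ∀ (p : P) (f : A), f ≠ 0 →
      IsDiscreteValuationRing.addVal (Localization.AtPrime p.1) (algebraMap A _ f) = v p f := fun p f hf =>
    (ENat.coe_toNat (mt IsDiscreteValuationRing.addVal_eq_top_iff.mp fun h' =>
      hf (hinj p (h'.trans (map_zero _).symm)))).symm
  have hmul : ∀ (p : P) (f g : A), f ≠ 0 → g ≠ 0 → v p (f * g) = v p f + v p g := fun p f g hf hg => by
    have h1 := hval p (f * g) (mul_ne_zero hf hg)
    rw [map_mul, IsDiscreteValuationRing.addVal_mul, hval p f hf, hval p g hg] at h1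
    exact_mod_cast h1.symm
  have hcrit : ∀ f ∈ Φ, ∀ g : A, (g ∈ Φ ∨ g = 1) → (∀ p, v p g ≤ v p f) → g ∣ f := by
    intro f hf g hg hle
    have hg0 : g ≠ 0 := hg.elim (hne g) fun h => h ▸ one_ne_zero
    let K := FractionRing A
    have hgK : algebraMap A K g ≠ 0 := fun e => hg0 (IsFractionRing.injective A K (e.trans (map_zero _).symm))
    obtain ⟨a, ha⟩ := Lib.RefHull.NormalAlg.mem_range_of_forall_height_one
      (algebraMap A K f / algebraMap A K g) fun p hp h1 => by
      by_cases hhp : h ∈ p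
      · let p' : P := ⟨p, mem_minimalPrimes_of_height_one h0 p h1 hhp, h1⟩
        have h2 : IsDiscreteValuationRing.addVal (Localization.AtPrime p'.1) (algebraMap A _ g) ≤
            IsDiscreteValuationRing.addVal (Localization.AtPrime p'.1) (algebraMap A _ f) := by
          rw [hval p' g hg0, hval p' f (hne f hf)]
          exact_mod_cast hle p'
        obtain ⟨z, hz⟩ := IsDiscreteValuationRing.addVal_le_iff_dvd.mp h2
        obtain ⟨⟨a, s⟩, has⟩ := IsLocalization.surj p'.1.primeCompl z
        refine ⟨a, s, s.2, ?_⟩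
        have h3 : f * s = g * a := hinj p' (by rw [map_mul, map_mul, hz, mul_assoc, has])
        rw [← mul_div_assoc, div_eq_iff hgK, ← map_mul, ← map_mul, mul_comm (s : A), h3, mul_comm]
      · refine ⟨f, g, fun hgp => hhp ?_, mul_div_cancel₀ _ hgK⟩
        rcases hg with hg | rfl
        · obtain ⟨n, hn⟩ := hΦ g hg
          exact hp.mem_of_pow_mem n (p.mem_of_dvd hn hgp)
        · exact absurd hgp (hp.ne_top ∘ (Ideal.eq_top_iff_one p).mpr)
    refine ⟨a, IsFractionRing.injective A K ?_⟩
    rw [map_mul, ha, mul_div_cancel₀ _ hgK]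
  let ν : A → (P → ℕ) := fun f p => v p f
  let M : Set (P → ℕ) := ν '' Φ \ {0}
  have hfin : {m | Minimal (· ∈ M) m}.Finite :=
    IsAntichain.finite_of_partiallyWellOrderedOn (setOfPred_minimal_antichain _)
      (Set.isPWO_of_wellQuasiOrderedLE _)
  have hpre : ∀ m ∈ hfin.toFinset, ∃ g ∈ Φ, ν g = m := fun m hm => (hfin.mem_toFinset.mp hm).1.1
  choose g hgΦ hgν using hpre
  let F : Finset A := hfin.toFinset.attach.image fun m => g m.1 m.2
  refine ⟨F, ?_, ?_⟩
  · intro x hx
    obtain ⟨m, -, rfl⟩ := Finset.mem_image.mp (Finset.mem_coe.mp hx)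
    exact hgΦ _ _
  suffices H : ∀ n, ∀ f ∈ Φ, ∑ p, v p f = n → ∃ l : List A, (∀ x ∈ l, x ∈ F) ∧ ∃ u ∈ Φ, IsUnit u ∧ f = l.prod * u from
    fun f hf => H _ f hf rfl
  intro n
  induction n using Nat.strong_induction_on with
  | _ n ih =>
    intro f hf hn
    by_cases hz : ν f = 0
    · refine ⟨[], by simp, f, hf, ?_, by simp⟩
      obtain ⟨n', hn'⟩ := hΦ f hf
      -- `f ∣ f * f` gives that `1 ∈ Φ`
      have h1 : (1 : A) ∈ Φ := hdiv f hf f hf 1 (mul_one f).symm
      exact isUnit_of_dvd_one (hcrit 1 h1 f (Or.inl hf) fun p => (congrFun hz p).le.trans (Nat.zero_le _))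
    · obtain ⟨m, hmle, hmmin⟩ := (Set.isPWO_of_wellQuasiOrderedLE M).exists_le_minimal
        (a := ν f) ⟨⟨f, hf, rfl⟩, hz⟩
      have hm : m ∈ hfin.toFinset := hfin.mem_toFinset.mpr hmmin
      obtain ⟨q, hq⟩ := hcrit f hf _ (Or.inl (hgΦ m hm)) fun p => by
        show ν (g m hm) p ≤ ν f p
        rw [hgν]; exact hmle p
      have hqΦ := hdiv f hf _ (hgΦ m hm) q hq
      have hlt : ∑ p, v p q < n := by
        rw [← hn, hq]
        simp only [hmul _ _ _ (hne _ (hgΦ m hm)) (hne q hqΦ), Finset.sum_add_distrib]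
        have : 0 < ∑ p, v p (g m hm) := by
          rw [pos_iff_ne_zero]
          intro h'
          refine hmmin.1.2 ?_
          rw [Set.mem_singleton_iff, ← hgν m hm]
          exact funext fun p => (Finset.sum_eq_zero_iff.mp h') p (Finset.mem_univ p)
        omega
      obtain ⟨l, hl, u, hu, hu', rfl⟩ := ih _ hlt q hqΦ rfl
      refine ⟨g m hm :: l, fun x hx => ?_, u, hu, hu', by rw [hq, List.prod_cons, mul_assoc]⟩
      rcases List.mem_cons.mp hx with rfl | hx
      · exact Finset.mem_image.mpr ⟨⟨m, hm⟩, Finset.mem_attach _ _, rfl⟩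
      · exact hl x hx

end Groth.Agent.H1.Obs.UFG
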