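import Groth.Agent.H1.Obs.UFG.Components
import Groth.Agent.Lib.Cohen.NagataFiniteType

/-!
# Finite generation of invariants and identity components
-/

universe u

open CategoryTheory Limits MonoidalCategory CartesianMonoidalCategory MonObj GrpObj AlgebraicGeometry
open scoped TensorProduct

namespace Groth.Agent.H1.Obs.UFG

set_option linter.style.haveILetI false
set_option linter.unusedSectionVars false

open Groth.Agent.Lib.RedPts Groth.Agent.Lib.RedPts.Points Classical Classical.Scheme' Groth.Agent.H1.RInv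

attribute [local instance] baseAlgebra _root_.Classical.propDecidable

section Algebra

variable {k : Type u} [Field k]

/-- A subalgebra of an affine domain which is integral over a finitely generated subalgebra is finitely generated. -/
theorem fg_of_integral {D : Type u} [CommRing D] [IsDomain D] [Algebra k D] [Algebra.FiniteType k D]
    (R : Subalgebra k D) {S₀ : Subalgebra k D} (hS : S₀.FG) (hle : S₀ ≤ R) (hint : ∀ f ∈ R, IsIntegral S₀ f) :
    R.FG := by
  classical
  haveI : Algebra.FiniteType k S₀ := (Subalgebra.fg_iff_finiteType _).mp hS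
  obtain ⟨gens, rfl⟩ := hS
  have hNag : CAlg.IsNagata (Algebra.adjoin k (gens : Set D)) :=
    Lib.Cohen.NagataFiniteType.isNagata_of_finiteType (H25.NagataStalk.isNagata_field k)
  let S₁ := Algebra.adjoin k (gens : Set D)
  let K := FractionRing D
  haveI : Algebra.EssFiniteType D K := Algebra.EssFiniteType.of_isLocalization K (nonZeroDivisors D)
  haveI : Algebra.EssFiniteType k K := Algebra.EssFiniteType.comp k D K
  haveI : Algebra.EssFiniteType S₁ K := Algebra.EssFiniteType.of_comp k S₁ K
  haveI := Lib.Normalization.Relative.finite_integralClosure_field (κ := K) hNag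
  let N : Submodule S₁ K :=
    { carrier := (algebraMap D K) '' (R : Set D)
      zero_mem' := ⟨0, Subalgebra.zero_mem _, map_zero _⟩
      add_mem' := by
        rintro _ _ ⟨a, ha, rfl⟩ ⟨b, hb, rfl⟩
        exact ⟨a + b, Subalgebra.add_mem _ ha hb, map_add _ _ _⟩
      smul_mem' := by
        rintro s _ ⟨a, ha, rfl⟩
        exact ⟨s.1 * a, Subalgebra.mul_mem _ (hle s.2) ha, by rw [map_mul, Algebra.smul_def]; rfl⟩ }
  have hNle : N ≤ Subalgebra.toSubmodule (integralClosure S₁ K) := by
    rintro _ ⟨a, ha, rfl⟩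
    exact IsIntegral.algebraMap (hint a ha)
  haveI : Module.Finite S₁ (Subalgebra.toSubmodule (integralClosure S₁ K)) :=
    inferInstanceAs (Module.Finite S₁ (integralClosure S₁ K))
  haveI : IsNoetherianRing S₁ := Algebra.FiniteType.isNoetherianRing k S₁
  have hNfg : N.FG := by
    have hfg := IsNoetherian.noetherian (R := S₁) (N.comap (Subalgebra.toSubmodule (integralClosure S₁ K)).subtype)
    have := hfg.map (Subalgebra.toSubmodule (integralClosure S₁ K)).subtype
    rwa [Submodule.map_comap_subtype, inf_eq_right.mpr hNle] at this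
  obtain ⟨T, hT⟩ := hNfg
  have hTmem : ∀ t ∈ T, ∃ a ∈ R, algebraMap D K a = t := fun t ht =>
    hT.le (Submodule.subset_span (Finset.mem_coe.mpr ht))
  choose lift hlift hlift' using hTmem
  refine ⟨gens ∪ T.attach.image (fun t => lift t.1 t.2), le_antisymm (Algebra.adjoin_le ?_) fun f hf => ?_⟩
  · intro w hw
    simp only [Finset.coe_union, Set.mem_union, Finset.mem_coe, Finset.mem_image] at hw
    rcases hw with hw | ⟨t, -, rfl⟩
    · exact hle (Algebra.subset_adjoin hw)
    · exact hlift _ _
  · have hmem : algebraMap D K f ∈ Submodule.span S₁ (T : Set K) := hT.symm.le ⟨f, hf, rfl⟩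
    suffices h : ∀ z ∈ Submodule.span S₁ (T : Set K), ∃ a ∈ Algebra.adjoin k
        ((gens ∪ T.attach.image (fun t => lift t.1 t.2) : Finset _) : Set D), algebraMap D K a = z by
      obtain ⟨a, ha, he⟩ := h _ hmem
      rwa [← IsFractionRing.injective D K he]
    intro z hz
    induction hz using Submodule.span_induction with
    | mem t ht =>
      exact ⟨lift t ht, Algebra.subset_adjoin (Finset.mem_coe.mpr (Finset.mem_union_right _
        (Finset.mem_image.mpr ⟨⟨t, ht⟩, Finset.mem_attach _ _, rfl⟩))), hlift' t ht⟩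
    | zero => exact ⟨0, Subalgebra.zero_mem _, map_zero _⟩
    | add x y _ _ hx hy =>
      obtain ⟨a, ha, rfl⟩ := hx
      obtain ⟨b, hb, rfl⟩ := hy
      exact ⟨a + b, Subalgebra.add_mem _ ha hb, map_add _ _ _⟩
    | smul s x _ hx =>
      obtain ⟨a, ha, rfl⟩ := hx
      refine ⟨s.1 * a, Subalgebra.mul_mem _ (Algebra.adjoin_mono ?_ s.2) ha, by
        rw [map_mul, Algebra.smul_def]; rfl⟩
      rw [Finset.coe_union]
      exact Set.subset_union_left

/-- A subalgebra over which a finitely generated larger one is integral is finitely generated. -/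
theorem fg_of_integral_overalgebra {D : Type u} [CommRing D] [Algebra k D] {R R' : Subalgebra k D} (hR' : R'.FG)
    (hle : R ≤ R') (hint : ∀ f ∈ R', IsIntegral R f) : R.FG := by
  letI : Algebra R R' := (Subalgebra.inclusion hle).toAlgebra
  haveI : IsScalarTower k R R' := IsScalarTower.of_algebraMap_eq fun _ => rfl
  haveI : IsScalarTower R R' D := IsScalarTower.of_algebraMap_eq fun _ => rfl
  haveI : Algebra.FiniteType k R' := (Subalgebra.fg_iff_finiteType _).mp hR'
  haveI : Algebra.IsIntegral R R' := ⟨fun f =>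
    (isIntegral_algebraMap_iff (A := R') (B := D) Subtype.val_injective).mp (hint f.1 f.2)⟩
  haveI : Algebra.FiniteType R R' := Algebra.FiniteType.of_restrictScalars_finiteType k R R'
  haveI : Module.Finite R R' := Algebra.IsIntegral.finite
  refine (Subalgebra.fg_iff_finiteType _).mpr ⟨?_⟩
  exact fg_of_fg_of_fg k R R' (Algebra.FiniteType.out) (Module.Finite.fg_top) (Subalgebra.inclusion_injective hle)

end Algebra

variable {k : Type u} [Field k] [IsAlgClosed k] {G H G₀ H₀ : Over (Spec (CommRingCat.of k))}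
  [GrpObj G] [GrpObj H] [GrpObj G₀] [GrpObj H₀] [IsAffine G.left] [Smooth G.hom]
  [IsAffine H.left] [Smooth H.hom] [IsAffine G₀.left] [Smooth G₀.hom] [IsAffine H₀.left] [Smooth H₀.hom]

/-- Invariants of an open subgroup are integral over the invariants of the group. -/
theorem isIntegral_of_open (i : H ⟶ G) [IsMonHom i] (j : H₀ ⟶ H) [IsMonHom j] [IsOpenImmersion j.left]
    {f : Γ(G.left, ⊤)} (hf : Inv (j ≫ i) f) : IsIntegral (invAlg (G := G) i) f := by
  classical
  haveI : IsReduced G.left := Groth.Agent.Lib.GrpSch.isReduced_of_smooth_field G.hom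
  let S : Subgroup (P H) :=
    { carrier := {x | ∃ u : P H₀, u ≫ j = x}
      mul_mem' := fun {x y} ⟨u, hu⟩ ⟨v, hv⟩ => ⟨u * v, by rw [MonObj.mul_comp, hu, hv]⟩
      one_mem' := ⟨1, MonObj.one_comp _⟩
      inv_mem' := fun {x} ⟨u, hu⟩ => ⟨u⁻¹, by rw [GrpObj.inv_comp, hu]⟩ }
  obtain ⟨e, hei, he⟩ := exists_indicator j
  haveI : Algebra.FiniteType k Γ(H.left, ⊤) := RInv.finiteType_Γ (G := H)
  haveI : IsNoetherianRing Γ(H.left, ⊤) := Algebra.FiniteType.isNoetherianRing k _
  haveI := finite_idempotents Γ(H.left, ⊤)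
  haveI : Finite (P H ⧸ S) := by
    refine Finite.of_injective (fun q => (⟨ltr q.out⁻¹ e, hei.map _⟩ : {a : Γ(H.left, ⊤) // IsIdempotentElem a}))
      fun q q' h => ?_
    have h2 := congrArg (fun a => ev q.out a.1) h
    simp only [ev_ltr, inv_mul_cancel] at h2
    rw [((he 1).1).mpr ⟨1, MonObj.one_comp _⟩] at h2
    rw [← q.out_eq', ← q'.out_eq']
    exact (QuotientGroup.eq.mpr (show q'.out⁻¹ * q.out ∈ S from ((he _).1).mp h2.symm)).symm
  haveI := Fintype.ofFinite (P H ⧸ S)
  have hfS : ∀ a b : P H, (QuotientGroup.mk a : P H ⧸ S) = QuotientGroup.mk b →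
      rtr (a ≫ i) f = rtr (b ≫ i) f := fun a b hab => by
    obtain ⟨u, hu⟩ := QuotientGroup.eq.mp hab
    refine ext_points fun x => ?_
    rw [ev_rtr, ev_rtr, show b = a * (u ≫ j) by rw [hu, mul_inv_cancel_left], MonObj.mul_comp, Category.assoc,
      ← _root_.mul_assoc, hf]
  let p : Polynomial Γ(G.left, ⊤) := ∏ q : P H ⧸ S, (Polynomial.X - Polynomial.C (rtr (q.out ≫ i) f))
  have hp : ∀ h : P H, p.map (rtr (h ≫ i)).toRingHom = p := fun h => by
    rw [Polynomial.map_prod]
    refine Fintype.prod_equiv (MulAction.toPerm h) _ _ fun q => ?_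
    rw [Polynomial.map_sub, Polynomial.map_X, Polynomial.map_C, show (rtr (h ≫ i)).toRingHom (rtr (q.out ≫ i) f) =
      rtr (h ≫ i) (rtr (q.out ≫ i) f) from rfl, rtr_rtr, ← MonObj.mul_comp,
      hfS (h * q.out) ((MulAction.toPerm h) q).out]
    rw [QuotientGroup.out_eq', MulAction.toPerm_apply]
    conv_rhs => rw [← q.out_eq']
    rfl
  have hlift : p ∈ Polynomial.lifts (algebraMap (invAlg (G := G) i) Γ(G.left, ⊤)) := by
    rw [Polynomial.lifts_iff_coeff_lifts]
    intro m
    refine ⟨⟨p.coeff m, (inv_iff_rtr i _).mpr fun h => ?_⟩, rfl⟩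
    conv_rhs => rw [← hp h, Polynomial.coeff_map]
    rfl
  have hmonic : p.Monic := Polynomial.monic_prod_of_monic _ _ fun q _ => Polynomial.monic_X_sub_C _
  haveI : Nontrivial Γ(G.left, ⊤) := (ev (1 : P G)).domain_nontrivial
  obtain ⟨q, hq, -, hqm⟩ := Polynomial.lifts_and_degree_eq_and_monic hlift hmonic
  refine ⟨q, hqm, ?_⟩
  rw [← Polynomial.eval_map, hq, Polynomial.eval_prod]
  refine Finset.prod_eq_zero (Finset.mem_univ (QuotientGroup.mk 1)) ?_
  rw [Polynomial.eval_sub, Polynomial.eval_X, Polynomial.eval_C, hfS _ 1 (QuotientGroup.out_eq' _), MonObj.one_comp,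
    rtr_one, sub_self]

theorem fg_iff_subringFGOver (i : H ⟶ G) [IsMonHom i] :
    AGF.SubringFGOver k G (AGF.rTransInv i) ↔ (invAlg (G := G) i).FG := by
  constructor
  · exact fun h => (Subalgebra.fg_iff_finiteType _).mpr (finiteType_invAlg i h)
  · rintro ⟨s, hs⟩
    refine ⟨s, fun f hf => (isRTransInv_iff i f).mpr ?_, fun f hf => ?_⟩
    · have : f ∈ invAlg (G := G) i := hs ▸ Algebra.subset_adjoin hf
      exact this
    · have h1 : f ∈ invAlg (G := G) i := (isRTransInv_iff i f).mp hf
      rw [← hs, Algebra.mem_adjoin_iff] at h1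
      exact h1

theorem fg_tfae [ConnectedSpace G₀.left] (i : H ⟶ G) [IsMonHom i] (jG : G₀ ⟶ G) [IsMonHom jG] [IsOpenImmersion jG.left]
    (jH : H₀ ⟶ H) [IsMonHom jH] [IsOpenImmersion jH.left] (i₀ : H₀ ⟶ G₀) (hc : i₀ ≫ jG = jH ≫ i) :
    List.TFAE [(invAlg (G := G) i).FG, (invAlg (G := G) (jH ≫ i)).FG, (invAlg (G := G₀) i₀).FG] := by
  classical
  haveI : IsClosedImmersion jG.left := isClosedImmersion_of_open jG
  haveI : IsReduced G.left := Groth.Agent.Lib.GrpSch.isReduced_of_smooth_field G.hom
  haveI : IsReduced G₀.left := Groth.Agent.Lib.GrpSch.isReduced_of_smooth_field G₀.hom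
  have hle : invAlg (G := G) i ≤ invAlg (G := G) (jH ≫ i) := fun f hf x h => by
    rw [← Category.assoc]; exact hf x _
  tfae_have 2 → 1 := fun h => fg_of_integral_overalgebra h hle fun f hf => isIntegral_of_open i jH hf
  tfae_have 3 → 2 := fun h => hc ▸ fg_of_identity jG i₀ h
  tfae_have 1 → 3 := fun h => by
    haveI := Groth.Agent.H1.Obs.isDomain_functions G₀
    haveI : Algebra.FiniteType k Γ(G₀.left, ⊤) := RInv.finiteType_Γ (G := G₀)
    refine fg_of_integral (invAlg (G := G₀) i₀) (S₀ := (invAlg (G := G) i).map (restr jG)) (h.map _) ?_ ?_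
    · rintro _ ⟨F, hF, rfl⟩ x t
      show ev _ (restr jG F) = ev _ (restr jG F)
      rw [ev_restr, ev_restr, MonObj.mul_comp, Category.assoc, hc, ← Category.assoc t]
      exact hF _ _
    · intro f₀ hf₀
      obtain ⟨e, hei, he⟩ := exists_indicator jG
      obtain ⟨f', hf'⟩ := jG.left.app_surjective ⊤ (isAffineOpen_top G.left) f₀
      have hz : ∀ z : P G₀, ev (z ≫ jG) f' = ev z f₀ := fun z => by
        rw [← hf', ev_comp]
        rfl
      have hFi : Inv (jH ≫ i) (e * f') := fun x t => by
        rw [← hc]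
        by_cases hx : ∃ z : P G₀, z ≫ jG = x
        · obtain ⟨z, rfl⟩ := hx
          rw [map_mul, map_mul, show (z ≫ jG) * (t ≫ i₀ ≫ jG) = (z * (t ≫ i₀)) ≫ jG by rw [MonObj.mul_comp, Category.assoc],
            ((he _).1).mpr ⟨_, rfl⟩, ((he (z ≫ jG)).1).mpr ⟨_, rfl⟩, hz, hz, hf₀]
        · have h0 : ev (x * (t ≫ i₀ ≫ jG)) e = 0 := ((he _).2).mpr (by
            rintro ⟨z, hz⟩
            exact hx ⟨z * (t ≫ i₀)⁻¹, by rw [MonObj.mul_comp, hz, GrpObj.inv_comp, Category.assoc, mul_inv_cancel_right]⟩)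
          rw [map_mul, map_mul, h0, ((he x).2).mpr hx, zero_mul, zero_mul]
      have hre : restr jG (e * f') = f₀ := ext_points fun z => by
        rw [ev_restr, map_mul, ((he _).1).mpr ⟨z, rfl⟩, _root_.one_mul, hz]
      obtain ⟨q, hqm, hq⟩ := isIntegral_of_open i jH hFi
      let φ : invAlg (G := G) i →+* (invAlg (G := G) i).map (restr jG) :=
        { toFun := fun F => ⟨restr jG F.1, F.1, F.2, rfl⟩
          map_one' := Subtype.ext (map_one (restr jG))
          map_mul' := fun a b => Subtype.ext (map_mul (restr jG) _ _)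
          map_zero' := Subtype.ext (map_zero (restr jG))
          map_add' := fun a b => Subtype.ext (map_add (restr jG) _ _) }
      refine ⟨q.map φ, hqm.map φ, ?_⟩
      rw [Polynomial.eval₂_map, ← hre]
      have := congrArg (restr jG) hq
      rw [map_zero, ← RingHom.coe_coe (restr jG), Polynomial.hom_eval₂] at this
      exact this
  tfae_finish

end Groth.Agent.H1.Obs.UFG
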