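import Groth.Agent.H1.Obs.Apply
import Groth.Agent.H1.Obs.Extend
import Groth.Agent.H1.Obs.Open
import Groth.Agent.H1.Obs.Regular
import Groth.Agent.H1.Obs.TransferFG
import Groth.Agent.H1.Obs.ReductiveObs

/-!
# Grosshans subgroups in intermediate observable subgroups
-/

universe u

open CategoryTheory Limits MonoidalCategory CartesianMonoidalCategory MonObj GrpObj AlgebraicGeometry
open scoped TensorProduct

namespace Groth.Agent.H1.Obs.UFG

set_option linter.style.haveILetI false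
set_option linter.unusedSectionVars false

open Groth.Agent.Lib.RedPts Groth.Agent.Lib.RedPts.Points Groth.Agent.H1.RInv

attribute [local instance] baseAlgebra

variable {k : Type u} [Field k] [IsAlgClosed k] {G H K : Over (Spec (CommRingCat.of k))} [GrpObj G] [GrpObj H] [GrpObj K]
  [IsAffine G.left] [Smooth G.hom] [IsAffine H.left] [Smooth H.hom] [IsAffine K.left] [Smooth K.hom]

/-- Invariant functions on an observable subgroup extend to invariant functions on the group. -/
theorem exists_inv_extension (i : H ⟶ G) [IsMonHom i] [IsClosedImmersion i.left] (hobs : AGF.IsObservableIn k i)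
    (κ : K ⟶ H) [IsMonHom κ] {f : Γ(H.left, ⊤)} (hf : Inv κ f) :
    ∃ F : Γ(G.left, ⊤), Inv (κ ≫ i) F ∧ restr i F = f := by
  classical
  haveI : IsReduced H.left := Groth.Agent.Lib.GrpSch.isReduced_of_smooth_field H.hom
  obtain ⟨W, _, hsW, hWst⟩ := exists_stable {f}
  have hfW : f ∈ W := hsW (Finset.mem_singleton_self f)
  obtain ⟨r, e, he⟩ := exists_rep_of_stable W hWst
  obtain ⟨V, _, _, _, ρ, φ, hφ, heq⟩ := extendsAlong_of_observable i hobs _ r.gmod
  let v := e.symm ⟨f, hfW⟩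
  have hv : (e v : Γ(H.left, ⊤)) = f := congrArg Subtype.val (e.apply_symm_apply ⟨f, hfW⟩)
  let l₀ : (Fin (Module.finrank k W) → k) →ₗ[k] k := (evA (1 : P H)).toLinearMap ∘ₗ W.subtype ∘ₗ e.toLinearMap
  obtain ⟨l, hl⟩ : ∃ l : V →ₗ[k] k, ∀ x, l (φ x) = l₀ x := by
    obtain ⟨g, hg⟩ := LinearMap.exists_leftInverse_of_injective φ (LinearMap.ker_eq_bot.mpr hφ)
    exact ⟨l₀ ∘ₗ g, fun x => by
      show l₀ ((g ∘ₗ φ) x) = l₀ x
      rw [hg]
      rfl⟩
  have hfix : ∀ h : P K, act ρ (h ≫ κ ≫ i) (φ v) = φ v := fun h => by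
    rw [← Category.assoc, ← map_act_of_equivariant i r.gmod ρ φ heq]
    congr 1
    refine e.injective (Subtype.ext (ext_points fun x => ?_))
    rw [he, ev_rtr, hv, hf]
  refine ⟨coef ρ l (φ v), fun x h => ?_, ext_points fun a => ?_⟩
  · rw [ev_coef, ev_coef, act_mul, hfix]
  · rw [ev_restr, ev_coef, ← map_act_of_equivariant i r.gmod ρ φ heq, hl]
    show ev 1 (e (act r.gmod a v) : Γ(H.left, ⊤)) = _
    rw [he, ev_rtr, hv, _root_.one_mul]

theorem subringFGOver_intermediate (i : H ⟶ G) [IsMonHom i] [IsClosedImmersion i.left] (hobs : AGF.IsObservableIn k i)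
    (κ : K ⟶ H) [IsMonHom κ] (hfg : AGF.SubringFGOver k G (AGF.rTransInv (κ ≫ i))) :
    AGF.SubringFGOver k H (AGF.rTransInv κ) := by
  classical
  obtain ⟨s, hs, hle⟩ := hfg
  have hrinv : ∀ F, Inv (κ ≫ i) F → Inv κ (restr i F) := fun F hF x h => by
    rw [ev_restr, ev_restr, MonObj.mul_comp, Category.assoc]
    exact hF _ h
  refine ⟨s.image (restr i), fun w hw => ?_, fun f hf => ?_⟩
  · obtain ⟨F, hF, rfl⟩ := Finset.mem_image.mp (Finset.mem_coe.mp hw)
    exact (isRTransInv_iff κ _).mpr (hrinv F ((isRTransInv_iff (κ ≫ i) F).mp (hs hF)))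
  · obtain ⟨F, hF, rfl⟩ := exists_inv_extension i hobs κ ((isRTransInv_iff κ f).mp hf)
    have h1 : F ∈ Algebra.adjoin k (s : Set Γ(G.left, ⊤)) := by
      rw [Algebra.mem_adjoin_iff]
      exact hle ((isRTransInv_iff (κ ≫ i) F).mpr hF)
    have h2 : restr i F ∈ Algebra.adjoin k ((s.image (restr i) : Finset _) : Set Γ(H.left, ⊤)) := by
      rw [Finset.coe_image, ← AlgHom.map_adjoin]
      exact ⟨F, h1, rfl⟩
    rw [Algebra.mem_adjoin_iff] at h2
    exact h2

end Groth.Agent.H1.Obs.UFG
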