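import Groth.Agent.H1.Obs.Regular
import Groth.Agent.H1.Classical.Proper
import Groth.Agent.Lib.Homog.Affine
import Mathlib.RingTheory.Valuation.LocalSubring
import Mathlib.RingTheory.Ideal.GoingDown
import Mathlib.AlgebraicGeometry.ValuativeCriterion

/-!
# Factoring a generic point of a group through an integral point and a Borel subgroup
-/

universe u

open CategoryTheory Limits MonoidalCategory CartesianMonoidalCategory MonObj GrpObj AlgebraicGeometry
open scoped TensorProduct

namespace Groth.Agent.H1.Obs.UFG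

set_option linter.style.haveILetI false
set_option linter.unusedSectionVars false

open Groth.Agent.Lib.RedPts Groth.Agent.Lib.RedPts.Points Classical.Scheme' RInv

attribute [local instance] baseAlgebra

variable {k : Type u} [Field k] [IsAlgClosed k]

/-- A field valued point of a group is, over an extension of the valued field, an integral point times a point of a
Borel subgroup. -/
theorem exists_lift_valuation {G B : Over (Spec (CommRingCat.of k))} [GrpObj G] [GrpObj B] [IsAffine G.left]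
    [Smooth G.hom] [ConnectedSpace G.left] {iB : B ⟶ G} (hB : Red.IsBorelOver k iB)
    (K : Type u) [Field K] [Algebra k K] (φ : Γ(G.left, ⊤) →ₐ[k] K) (O : ValuationSubring K)
    (hO : ∀ c : k, algebraMap k K c ∈ O) :
    ∃ (K' : Type u) (_ : Field K') (_ : Algebra k K') (κ : K →ₐ[k] K') (O' : ValuationSubring K'),
      (∀ x, κ x ∈ O' → x ∈ O) ∧ (∀ x ∈ O, κ x ∈ O') ∧ ∃ (φ₀ : Γ(G.left, ⊤) →ₐ[k] K') (β : Γ(B.left, ⊤) →ₐ[k] K'), (∀ f, φ₀ f ∈ O') ∧
        ∀ (f : Γ(G.left, ⊤)) {n : ℕ} (p : Fin n → Γ(G.left, ⊤)) (q : Fin n → Γ(B.left, ⊤)),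
          (∀ (x : P G) (y : P B), ev (x * (y ≫ iB)) f = ∑ i, ev x (p i) * ev y (q i)) →
            κ (φ f) = ∑ i, φ₀ (p i) * β (q i) := by
  classical
  haveI := hB.1
  haveI := hB.2.1
  haveI : Smooth B.hom := hB.2.2.1
  haveI : IsAffine B.left := isAffine_of_isAffineHom iB.left
  haveI : Mono iB := Over.mono_of_mono_left iB
  haveI : QuasiCompact B.hom := inferInstance
  obtain ⟨X, a, o, hX, -⟩ := Lib.Homog.exists_quotient_affine G B iB
  haveI : IsProper X.hom := Classical.Scheme'.isProper_quotient iB hB a o hX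
  obtain ⟨hlft, hflat, hsurj, hsq⟩ := hX
  haveI := hflat
  haveI := hsurj
  set q₀ := a.orbitMap o
  let g : VecGrp.pt k K ⟶ G := VecGrp.ptMap φ ≫ univPt G
  have hg : ∀ f, evB g f = φ f := fun f => by
    rw [evB_ptMap]
    refine congrArg φ ?_
    rw [evB_apply]
    show (Scheme.ΓSpecIso Γ(G.left, ⊤)).hom (G.left.isoSpec.inv.appTop f) = f
    rw [RInv.isoSpec_inv_appTop]
    exact Iso.inv_hom_id_apply (Scheme.ΓSpecIso Γ(G.left, ⊤)) f
  -- the valuative criterion
  let ρ : k →+* O := (algebraMap k K).codRestrict O.toSubring hO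
  have hw : CommSq (g ≫ q₀).left (Spec.map (CommRingCat.ofHom (algebraMap O K))) X.hom
      (Spec.map (CommRingCat.ofHom ρ)) := ⟨by
    rw [Over.w, ← Spec.map_comp]
    rfl⟩
  have hex : ValuativeCriterion.Existence X.hom :=
    ((congrFun₂ (congrFun UniversallyClosed.eq_valuativeCriterion X.left) (Spec (CommRingCat.of k))) X.hom ▸
      (inferInstance : UniversallyClosed X.hom) : _).1
  obtain ⟨l, hl₁', hl₂'⟩ : ∃ l : Spec (CommRingCat.of O) ⟶ X.left,
      Spec.map (CommRingCat.ofHom (algebraMap O K)) ≫ l = (g ≫ q₀).left ∧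
        l ≫ X.hom = Spec.map (CommRingCat.ofHom ρ) := by
    obtain ⟨⟨l, hl₁, hl₂⟩⟩ := hex
      { R := O, K := K, i₁ := (g ≫ q₀).left, i₂ := Spec.map (CommRingCat.ofHom ρ), commSq := hw }
    exact ⟨l, hl₁, hl₂⟩
  -- a point of the fibre product over the closed point
  let Pb := pullback q₀.left l
  obtain ⟨t, ht⟩ := (pullback.snd q₀.left l).surjective (IsLocalRing.closedPoint O)
  obtain ⟨W, hW, htW, -⟩ := exists_isAffineOpen_mem_and_subset (X := Pb) (x := t) (U := ⊤) trivial
  let C := Γ(Pb, W)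
  obtain ⟨r, hr⟩ := Spec.map_surjective (hW.fromSpec ≫ pullback.snd q₀.left l)
  letI : Algebra O C := r.hom.toAlgebra
  haveI : Module.Flat O C := by
    have : Flat (Spec.map r) := by rw [hr]; infer_instance
    exact (HasRingHomProperty.Spec_iff (P := @Flat)).mp this
  let tp : PrimeSpectrum C := hW.primeIdealOf ⟨t, htW⟩
  have htp : tp.asIdeal.comap (algebraMap O C) = IsLocalRing.maximalIdeal O := by
    have h1 : (Spec.map r).base tp = IsLocalRing.closedPoint O := by
      rw [hr, Scheme.Hom.comp_base, TopCat.comp_app]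
      refine Eq.trans (congrArg _ ?_) ht
      exact hW.fromSpec_primeIdealOf ⟨t, htW⟩
    exact congrArg PrimeSpectrum.asIdeal h1
  haveI := tp.isPrime
  haveI : tp.asIdeal.LiesOver (IsLocalRing.maximalIdeal O) := ⟨htp.symm⟩
  obtain ⟨qg, hqle, hqp, hqo⟩ := Ideal.exists_ideal_le_liesOver_of_le (S := C) (p := (⊥ : Ideal O))
    (q := IsLocalRing.maximalIdeal O) tp.asIdeal bot_le
  haveI := hqp
  let K' := FractionRing (C ⧸ qg)
  let π' : C →+* K' := (algebraMap (C ⧸ qg) K').comp (Ideal.Quotient.mk qg)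
  have hπker : ∀ c, π' c = 0 ↔ c ∈ qg := fun c => by
    rw [RingHom.comp_apply, map_eq_zero_iff _ (IsFractionRing.injective (C ⧸ qg) K'), Ideal.Quotient.eq_zero_iff_mem]
  let fp : Localization.AtPrime tp.asIdeal →+* K' := IsLocalization.lift (M := tp.asIdeal.primeCompl) (g := π') fun s =>
    (isUnit_iff_ne_zero.mpr fun h0 => s.2 (hqle ((hπker _).mp h0)))
  obtain ⟨O', hO'mem, hloc⟩ := IsLocalRing.exists_factor_valuationRing fp
  have hπO' : ∀ c, π' c ∈ O' := fun c => by
    rw [← IsLocalization.lift_eq (S := Localization.AtPrime tp.asIdeal) (M := tp.asIdeal.primeCompl) (g := π')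
      (fun s => (isUnit_iff_ne_zero.mpr fun h0 => s.2 (hqle ((hπker _).mp h0)))) c]
    exact hO'mem _
  have hπunit : ∀ c, c ∈ tp.asIdeal → ∀ y ∈ O', π' c * y ≠ 1 := fun c hc y hy h1 => by
    haveI := hloc
    have hu : IsUnit (fp.codRestrict O'.toSubring hO'mem (algebraMap C _ c)) := by
      refine IsUnit.of_mul_eq_one (⟨y, hy⟩ : O'.toSubring) (Subtype.ext ?_)
      show fp (algebraMap C _ c) * y = 1
      rw [IsLocalization.lift_eq]
      exact h1
    have hu' := (IsLocalHom.map_nonunit (f := fp.codRestrict O'.toSubring hO'mem) _ hu)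
    exact (IsLocalization.AtPrime.isUnit_to_map_iff (Localization.AtPrime tp.asIdeal) tp.asIdeal c).mp hu' hc
  have hinj : Function.Injective (π'.comp (algebraMap O C)) := (injective_iff_map_eq_zero _).mpr fun x hx => by
    have h1 : algebraMap O C x ∈ qg := (hπker _).mp hx
    have h2 : x ∈ qg.under O := h1
    rwa [← hqo.over, Ideal.mem_bot] at h2
  let κ₀ : K →+* K' := IsFractionRing.lift hinj
  have hι : ∀ x : O, κ₀ (x : K) = π' (algebraMap O C x) := fun x => IsFractionRing.lift_algebraMap hinj x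
  letI : Algebra k K' := (κ₀.comp (algebraMap k K)).toAlgebra
  let κ : K →ₐ[k] K' := { κ₀ with commutes' := fun c => rfl }
  refine ⟨K', inferInstance, inferInstance, κ, O', fun x hx => ?_,
    fun x hx => (show κ x = π' (algebraMap O C ⟨x, hx⟩) from hι ⟨x, hx⟩) ▸ hπO' _, ?_⟩
  · by_contra hxO
    have hxi : x⁻¹ ∈ O := (O.mem_or_inv_mem x).resolve_left hxO
    have hx0 : x ≠ 0 := fun h => hxO (h ▸ O.zero_mem)
    have hnu : (⟨x⁻¹, hxi⟩ : O) ∈ IsLocalRing.maximalIdeal O := by
      rw [IsLocalRing.mem_maximalIdeal, mem_nonunits_iff]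
      intro hu
      obtain ⟨⟨z, hz⟩, hzz⟩ := isUnit_iff_exists_inv.mp hu
      have h1 : x⁻¹ * z = 1 := congrArg Subtype.val hzz
      rw [inv_mul_eq_one₀ hx0] at h1
      exact hxO (h1 ▸ hz)
    rw [← htp, Ideal.mem_comap] at hnu
    refine hπunit _ hnu (κ x) hx ?_
    rw [← hι]
    show κ₀ x⁻¹ * κ₀ x = 1
    rw [← map_mul, inv_mul_cancel₀ hx0, map_one]
  let a₀ : Spec C ⟶ G.left := hW.fromSpec ≫ pullback.fst q₀.left l
  have hπ'κ : CommRingCat.ofHom (algebraMap k K') = CommRingCat.ofHom ρ ≫ r ≫ CommRingCat.ofHom π' :=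
    CommRingCat.hom_ext (RingHom.ext fun c => hι (ρ c))
  let m : VecGrp.pt k K' ⟶ G := Over.homMk (Spec.map (CommRingCat.ofHom π') ≫ a₀) (by
    show (Spec.map (CommRingCat.ofHom π') ≫ hW.fromSpec ≫ pullback.fst q₀.left l) ≫ G.hom =
      Spec.map (CommRingCat.ofHom (algebraMap k K'))
    rw [← Over.w q₀, hπ'κ, Spec.map_comp, Spec.map_comp, hr, ← hl₂']
    simp only [Category.assoc]
    rw [pullback.condition_assoc])
  let gK : VecGrp.pt k K' ⟶ G := VecGrp.ptMap κ ≫ g
  have heq : m ≫ q₀ = gK ≫ q₀ := by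
    refine Over.OverMorphism.ext ?_
    show (Spec.map (CommRingCat.ofHom π') ≫ hW.fromSpec ≫ pullback.fst q₀.left l) ≫ q₀.left =
      (Spec.map (CommRingCat.ofHom κ.toRingHom) ≫ g.left) ≫ q₀.left
    rw [Category.assoc (Spec.map (CommRingCat.ofHom κ.toRingHom)), ← Over.comp_left, ← hl₁']
    simp only [Category.assoc]
    rw [pullback.condition, ← Category.assoc hW.fromSpec, ← hr]
    simp only [← Category.assoc, ← Spec.map_comp]
    congr 2
    exact CommRingCat.hom_ext (RingHom.ext fun x => (hι x).symm)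
  let h := hsq.lift m gK heq
  refine ⟨evB m, evB (h ≫ snd G B), fun f => ?_, fun f n p q hpq => ?_⟩
  · show (Scheme.ΓSpecIso (CommRingCat.of K')).hom ((Spec.map (CommRingCat.ofHom π') ≫ a₀).appTop f) ∈ O'
    rw [Scheme.Hom.comp_appTop, CommRingCat.comp_apply]
    have hn := ConcreteCategory.congr_hom (Scheme.ΓSpecIso_naturality (CommRingCat.ofHom π')) (a₀.appTop f)
    simp only [CommRingCat.comp_apply] at hn
    erw [hn]
    exact hπO' _
  haveI : IsAffine (G ⊗ B).left := inferInstanceAs (IsAffine (Limits.pullback G.hom B.hom))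
  haveI : Smooth (G ⊗ B).hom := by rw [Over.tensorObj_hom]; infer_instance
  haveI : LocallyOfFiniteType (G ⊗ B).hom := inferInstance
  haveI : IsReduced (G ⊗ B).left := Groth.Agent.Lib.GrpSch.isReduced_of_smooth_field (G ⊗ B).hom
  have key : ((G ◁ iB) ≫ μ[G]).left.appTop f =
      ∑ i, (fst G B).left.appTop (p i) * (snd G B).left.appTop (q i) := by
    refine ext_points fun z => ?_
    rw [← ev_comp, map_sum,
      show z ≫ (G ◁ iB) ≫ μ[G] = (z ≫ fst G B) * ((z ≫ snd G B) ≫ iB) by
        rw [← Lib.Homog.comp_mulPair, lift_comp_fst_snd], hpq]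
    exact Finset.sum_congr rfl fun i _ => by rw [map_mul, ← ev_comp, ← ev_comp]
  have h1 : evB gK f = evB h (((G ◁ iB) ≫ μ[G]).left.appTop f) := by
    rw [← evB_comp', hsq.lift_snd]
  rw [← hg, ← evB_ptMap κ g f]
  show evB gK f = _
  rw [h1, key, map_sum]
  refine Finset.sum_congr rfl fun i _ => ?_
  rw [map_mul, ← evB_comp', ← evB_comp', hsq.lift_fst]
where
  evB_comp' {K : Type u} [CommRing K] [Algebra k K] {X Y : Over (Spec (CommRingCat.of k))}
      (g : VecGrp.pt k K ⟶ X) (ψ : X ⟶ Y) (f : Γ(Y.left, ⊤)) : evB (g ≫ ψ) f = evB g (ψ.left.appTop f) := by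
    simp only [evB_apply, Over.comp_left, Scheme.Hom.comp_appTop, CommRingCat.hom_comp, RingHom.comp_apply]

end Groth.Agent.H1.Obs.UFG
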