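import Groth.Agent.H1.Obs.UnipAlg
import Groth.Agent.H1.Obs.Regular
import Groth.Agent.H1.Classical.MaxTorusScheme
import Groth.Agent.H1.Classical.Unipotent
import Groth.Agent.H1.Classical.UnipotentRadical
import Groth.Agent.H1.Classical.Torus.Split
import Groth.Agent.H1.Classical.Parabolic

/-!
# Semi-invariant decomposition of the functions invariant under the unipotent radical of a Borel subgroup
-/

universe u

open CategoryTheory Limits MonoidalCategory CartesianMonoidalCategory MonObj GrpObj AlgebraicGeometry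
open scoped TensorProduct

namespace Groth.Agent.H1.Obs.UFG

set_option linter.style.haveILetI false
set_option linter.unusedSectionVars false

open Groth.Agent.Lib.RedPts Groth.Agent.Lib.RedPts.Points Classical Classical.Scheme' Groth.Agent.H1.RInv WithConv
  Classical.Torus Classical.Torus.Centraliser Classical.MaxTorusScheme Classical.MaxTorusApply Module

attribute [local instance] baseAlgebra

variable {k : Type u} [Field k] [IsAlgClosed k]

section Chart

variable {G : Over (Spec (CommRingCat.of k))} [GrpObj G] {A : Type u} [CommRing A] [HopfAlgebra k A]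
  (e : G ≅ GA k A) [IsMonHom e.hom]

/-- Points of the coordinate algebra as points of the group. -/
noncomputable def toP : HopfPts.Pt k A →* P G :=
  haveI : IsMonHom e.inv := inferInstance
  (postcomp e.inv (𝟙_ (Over (Spec (CommRingCat.of k))))).comp (ptHom _)

theorem toP_comp (χ : HopfPts.Pt k A) : toP e χ ≫ e.hom = ptHom _ χ := by
  show (ptHom _ χ ≫ e.inv) ≫ e.hom = _
  rw [Category.assoc, e.inv_hom_id, Category.comp_id]

theorem toP_surjective : Function.Surjective (toP e) := fun x => by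
  obtain ⟨χ, hχ⟩ := ptHom_surjective (x ≫ e.hom)
  exact ⟨χ, by rw [← cancel_mono e.hom, toP_comp, hχ]⟩

theorem toP_injective : Function.Injective (toP e) := fun χ χ' h =>
  ptHom_injective (by rw [← toP_comp e, h, toP_comp])

theorem exists_coord [IsAffine G.left] (f : Γ(G.left, ⊤)) :
    ∃ z : A, ∀ χ : HopfPts.Pt k A, ev (toP e χ) f = χ.ofConv z := by
  haveI : IsIso e.hom.left := ((Over.forget _).mapIso e).isIso_hom
  haveI : IsIso e.hom.left.appTop := inferInstanceAs (IsIso (e.hom.left.app ⊤))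
  obtain ⟨a, rfl⟩ := (ConcreteCategory.bijective_of_isIso e.hom.left.appTop).2 f
  obtain ⟨z, rfl⟩ := (ConcreteCategory.bijective_of_isIso (Scheme.ΓSpecIso (CommRingCat.of A)).inv).2 a
  refine ⟨z, fun χ => ?_⟩
  refine (ev_comp _ e.hom _).symm.trans ?_
  rw [toP_comp]
  show (Scheme.ΓSpecIso (CommRingCat.of k)).hom (algHomOf (ptHom (𝟙_ _) χ) z) = _
  rw [algHomOf_ptHom]
  show (Scheme.ΓSpecIso (CommRingCat.of k)).hom (baseHom (𝟙_ (Over (Spec (CommRingCat.of k)))) (χ.ofConv z)) = _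
  show (Scheme.ΓSpecIso (CommRingCat.of k)).hom (((Scheme.ΓSpecIso (CommRingCat.of k)).inv ≫
    (𝟙 (Spec (CommRingCat.of k)) : _ ⟶ _).appTop) (χ.ofConv z)) = _
  simp

theorem exists_fun [IsAffine G.left] (z : A) :
    ∃ f : Γ(G.left, ⊤), ∀ χ : HopfPts.Pt k A, ev (toP e χ) f = χ.ofConv z := by
  refine ⟨e.hom.left.appTop ((Scheme.ΓSpecIso (CommRingCat.of A)).inv z), fun χ => ?_⟩
  refine (ev_comp _ e.hom _).symm.trans ?_
  rw [toP_comp]
  show (Scheme.ΓSpecIso (CommRingCat.of k)).hom (algHomOf (ptHom (𝟙_ _) χ) z) = _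
  rw [algHomOf_ptHom]
  show (Scheme.ΓSpecIso (CommRingCat.of k)).hom (((Scheme.ΓSpecIso (CommRingCat.of k)).inv ≫
    (𝟙 (Spec (CommRingCat.of k)) : _ ⟶ _).appTop) (χ.ofConv z)) = _
  simp

end Chart

variable {G B U : Over (Spec (CommRingCat.of k))} [GrpObj G] [GrpObj B] [GrpObj U]

/-- A function transforming by `c` under right translation by a subgroup. -/
def Semi (iB : B ⟶ G) (c : P B → k) (f : Γ(G.left, ⊤)) : Prop :=
  ∀ (x : P G) (y : P B), ev (x * (y ≫ iB)) f = c y * ev x f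

theorem Semi.mul {iB : B ⟶ G} {c c' : P B → k} {f f' : Γ(G.left, ⊤)} (hf : Semi iB c f) (hf' : Semi iB c' f') :
    Semi iB (c * c') (f * f') := fun x y => by
  rw [map_mul, map_mul, hf, hf', Pi.mul_apply]; ring

variable [IsAffine G.left] [Smooth G.hom] [ConnectedSpace G.left]

section Aux

variable {iB : B ⟶ G}
  [IsMonHom iB] [IsClosedImmersion iB.left] {A : Type u} [CommRing A] [HopfAlgebra k A] [Algebra.FiniteType k A]
  [IsDomain A] (e : G ≅ GA k A) [IsMonHom e.hom]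
  {W : Type u} [AddCommGroup W] [Module k W] [FiniteDimensional k W] {σ : Representation k (HopfPts.Pt k A) W}
  {hcl : (HopfPts.D k A).IsCl (ptsOf (iB ≫ e.hom))} {T Us : Subgroup (ptsOf (iB ≫ e.hom))}
  {τ : ptsOf (iB ≫ e.hom) →* ptsOf (iB ≫ e.hom)}

include e in
theorem exists_point_borel (b : ptsOf (iB ≫ e.hom)) : ∃ y : P B, y ≫ iB = toP e (b : HopfPts.Pt k A) := by
  obtain ⟨y, hy⟩ := b.2
  exact ⟨y, by rw [← cancel_mono e.hom, Category.assoc, toP_comp]; exact hy⟩

/-- The unipotent part of the points of a Borel subgroup consists of points of its unipotent radical. -/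
theorem unipotent_mem_radical (hB : Red.IsBorelOver k iB) {u : U ⟶ B} (hU : Par.IsUnipotentRadical u)
    (hσ : GenRep.Gen (HopfPts.D k A) σ)
    (hs : Split.IsSplit ((HopfPts.D k A).restrict _ hcl) (σ.comp (ptsOf (iB ≫ e.hom)).subtype) T Us τ) :
    ∀ s ∈ Us, ∃ z : P U, (z ≫ u ≫ iB : P G) = toP e (s : HopfPts.Pt k A) := by
  haveI : Smooth B.hom := hB.2.2.1
  haveI : ConnectedSpace B.left := hB.2.2.2.1
  haveI : IsAffine B.left := isAffine_of_isAffineHom iB.left
  haveI := hU.1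
  haveI := locallyOfFiniteType (k := k) (A := A)
  haveI : IsMonHom e.inv := inferInstance
  haveI := (isBorelOver_comp hB e).2.1
  haveI hsol : Group.IsSolvable (ptsOf (iB ≫ e.hom)) := (isBor_ptsOf (iB ≫ e.hom) (isBorelOver_comp hB e)).solv
  let U' : Subgroup (HopfPts.Pt k A) := Us.map (ptsOf (iB ≫ e.hom)).subtype
  have hcl : (HopfPts.D k A).IsCl U' := by
    rw [Subgroup.coe_map]; exact (HopfPts.D k A).isCl_image hs.clU
  have hirr : (HopfPts.D k A).SIrr U' := by
    rw [Subgroup.coe_map]; exact ((HopfPts.D k A).sirr_restrict).mp hs.irrU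
  haveI : Group.IsSolvable U' := Group.isSolvable_of_isSolvable_injective
    (f := Subgroup.inclusion (show U' ≤ (ptsOf (iB ≫ e.hom)) by rintro _ ⟨s, -, rfl⟩; exact s.2)) (Subgroup.inclusion_injective _)
  obtain ⟨C, _, c, hc1, hc2, hc3, hc4, -, hfac, hpt⟩ := exists_subgroup U' hcl hirr
  haveI := hc1
  haveI := hc2
  haveI := hc3
  haveI := hc4
  haveI : IsAffine C.left := isAffine_of_isAffineHom c.left
  haveI : Mono c := Over.mono_of_mono_left c
  have hno : Classical.Unipotent.NoTorsion C := fun x m hm hx => by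
    obtain ⟨s, ⟨s', hs', rfl⟩, hxs⟩ := hpt x
    have hsm : ((ptsOf (iB ≫ e.hom)).subtype s') ^ m = 1 := ptHom_injective (by
      rw [map_pow, ← hxs, ← Classical.Unipotent.pow_comp, hx, MonObj.one_comp, map_one])
    have h1 : (ptsOf (iB ≫ e.hom)).subtype s' = 1 := Cartan.eq_one_of_nilp hσ.faith hm hsm ((hs.nilp s').mpr hs')
    rw [← cancel_mono c, MonObj.one_comp, hxs, h1, map_one]
  obtain ⟨φ, hφ⟩ := exists_factor (iB ≫ e.hom) c fun x => by
    obtain ⟨s, hs', hxs⟩ := hpt x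
    obtain ⟨s', -, rfl⟩ := hs'
    exact ⟨s', s'.2, hxs⟩
  haveI : Mono iB := Over.mono_of_mono_left iB
  haveI : IsMonHom φ := by
    haveI : IsMonHom (φ ≫ iB ≫ e.hom) := hφ.symm ▸ hc1
    exact CentralizerBorel.isMonHom_of_mono_comp φ (iB ≫ e.hom)
  obtain ⟨V, _, v, hv1, hv2, hv3, hv4, hv5, hv6, hv7, -⟩ :=
    Classical.Unipotent.exists_unipPart B hB.2.2.2.2.1
  haveI := hv3
  haveI := hv4
  obtain ⟨φ', hφ'⟩ := hv7 C φ hno
  have hV := UnipotentRadical.isUnipotentRadical_of hv5 v hv1 hv2 hv6 hv7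
  obtain ⟨ψ, hψ⟩ := hU.2.2.2.2.2.2 V v hv2 hv6 hv3 hV.2.2.2.2.1 hV.2.2.2.2.2.1
  intro s hs'
  obtain ⟨z, hz⟩ := hfac (𝟙_ _) (ptHom _ ((ptsOf (iB ≫ e.hom)).subtype s))
    fun a ha => by rw [algHomOf_ptHom, ha _ ⟨s, hs', rfl⟩, map_zero]
  refine ⟨z ≫ φ' ≫ ψ, ?_⟩
  rw [← cancel_mono e.hom, toP_comp]
  simp only [Category.assoc]
  rw [reassoc_of% hψ, reassoc_of% hφ', hφ, hz]
  rfl

theorem inv_rtr {u : U ⟶ B} (hU : Par.IsUnipotentRadical u) {f : Γ(G.left, ⊤)} (hf : Inv (u ≫ iB) f) (y : P B) :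
    Inv (u ≫ iB) (rtr (y ≫ iB) f) := fun x h => by
  obtain ⟨h', hh'⟩ := hU.2.2.1 _ y⁻¹ h
  have h2 : y⁻¹ * (h ≫ u) * y = h' ≫ u := by
    have h3 := hh'
    simp only [_root_.inv_inv] at h3
    first | exact h3 | exact h3.symm
  rw [ev_rtr, ev_rtr, ← Category.assoc h, show x * ((h ≫ u) ≫ iB) * (y ≫ iB) =
    x * (y ≫ iB) * ((y⁻¹ * (h ≫ u) * y) ≫ iB) by simp only [MonObj.mul_comp, GrpObj.inv_comp]; group, h2,
    Category.assoc]
  exact hf _ _

/-- Right translation on a stable space of functions, as a representation of the points of a Borel subgroup. -/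
noncomputable def borelRep (V : Submodule k Γ(G.left, ⊤))
    (hst : ∀ (b : ptsOf (iB ≫ e.hom)), ∀ v ∈ V, rtr (toP e (b : HopfPts.Pt k A)) v ∈ V) :
    Representation k (ptsOf (iB ≫ e.hom)) V where
  toFun b := (rtr (toP e (b : HopfPts.Pt k A))).toLinearMap.restrict (hst b)
  map_one' := LinearMap.ext fun v => Subtype.ext (by
    haveI : IsReduced G.left := Groth.Agent.Lib.GrpSch.isReduced_of_smooth_field G.hom
    refine ext_points fun x => ?_
    show ev x (rtr _ (v : Γ(G.left, ⊤))) = ev x (v : Γ(G.left, ⊤))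
    rw [ev_rtr, OneMemClass.coe_one, map_one, _root_.mul_one])
  map_mul' b b' := LinearMap.ext fun v => Subtype.ext (by
    haveI : IsReduced G.left := Groth.Agent.Lib.GrpSch.isReduced_of_smooth_field G.hom
    refine ext_points fun x => ?_
    show ev x (rtr _ (v : Γ(G.left, ⊤))) = ev x (rtr _ (rtr _ (v : Γ(G.left, ⊤))))
    rw [ev_rtr, ev_rtr, ev_rtr, Subgroup.coe_mul, map_mul, _root_.mul_assoc])

theorem borelRep_apply (V : Submodule k Γ(G.left, ⊤))
    (hst : ∀ (b : ptsOf (iB ≫ e.hom)), ∀ v ∈ V, rtr (toP e (b : HopfPts.Pt k A)) v ∈ V)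
    (b : ptsOf (iB ≫ e.hom)) (v : V) :
    ((borelRep e V hst b v : V) : Γ(G.left, ⊤)) = rtr (toP e (b : HopfPts.Pt k A)) v := rfl

theorem borelRep_endFn (V : Submodule k Γ(G.left, ⊤))
    (hst : ∀ (b : ptsOf (iB ≫ e.hom)), ∀ v ∈ V, rtr (toP e (b : HopfPts.Pt k A)) v ∈ V) :
    Kolchin.EndFn ((HopfPts.D k A).restrict (ptsOf (iB ≫ e.hom)) hcl).R (fun b => borelRep e V hst b) := fun v l => by
  haveI : IsReduced G.left := Groth.Agent.Lib.GrpSch.isReduced_of_smooth_field G.hom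
  obtain ⟨l', hl'⟩ := LinearMap.exists_extend l
  obtain ⟨z, hz⟩ := exists_coord e (coef (regular G) l' (v : Γ(G.left, ⊤)))
  refine ⟨HopfPts.ev k A z, ⟨z, rfl⟩, funext fun b => ?_⟩
  show (b : HopfPts.Pt k A).ofConv z = l (borelRep e V hst b v)
  rw [← hz, ev_coef, act_regular, ← borelRep_apply e V hst b v]
  exact LinearMap.congr_fun hl' (borelRep e V hst b v)

set_option maxHeartbeats 800000 in
/-- A stable space of invariants is spanned by semi-invariants. -/
theorem mem_span_semi_aux {u : U ⟶ B}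
    (hs : Split.IsSplit ((HopfPts.D k A).restrict _ hcl) (σ.comp (ptsOf (iB ≫ e.hom)).subtype) T Us τ)
    (hUs : ∀ s ∈ Us, ∃ z : P U, (z ≫ u ≫ iB : P G) = toP e (s : HopfPts.Pt k A))
    (pb : P B → ptsOf (iB ≫ e.hom)) (hpb : ∀ y, toP e (pb y : HopfPts.Pt k A) = y ≫ iB)
    (V : Submodule k Γ(G.left, ⊤)) [FiniteDimensional k V]
    (hst : ∀ (b : ptsOf (iB ≫ e.hom)), ∀ v ∈ V, rtr (toP e (b : HopfPts.Pt k A)) v ∈ V)
    (hfix : ∀ v ∈ V, Inv (u ≫ iB) v) (f : Γ(G.left, ⊤)) (hfV : f ∈ V) :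
    f ∈ Submodule.span k {f' | Inv (u ≫ iB) f' ∧ ∃ c, Semi iB c f'} := by
  classical
  let DB := (HopfPts.D k A).restrict (ptsOf (iB ≫ e.hom)) hcl
  have hρ := borelRep_endFn (hcl := hcl) e V hst
  obtain ⟨ε', hε'⟩ := exists_diag (D := DB) ⟨hs.clT, hs.irrT, hs.comm, hs.dense⟩ hρ
  rw [show f = ∑ i, (ε'.repr ⟨f, hfV⟩ i) • (ε' i : Γ(G.left, ⊤)) by
    conv_lhs => rw [← show ((⟨f, hfV⟩ : V) : Γ(G.left, ⊤)) = f from rfl, ← ε'.sum_repr ⟨f, hfV⟩]
    rw [AddSubmonoidClass.coe_finsetSum]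
    exact Finset.sum_congr rfl fun i _ => rfl]
  refine Submodule.sum_mem _ fun i _ => Submodule.smul_mem _ _ (Submodule.subset_span
    ⟨hfix _ (ε' i).2, ?_⟩)
  choose cT hcT using fun b : (ptsOf (iB ≫ e.hom)) => hε' _ (hs.tau_mem b) i
  refine ⟨fun y => cT (pb y), fun x y => ?_⟩
  obtain ⟨z, hz⟩ := hUs ((τ (pb y))⁻¹ * pb y) ((hs.tau_ker _).mp (by
    rw [map_mul, map_inv, hs.tau_fix _ (hs.tau_mem _), inv_mul_cancel]))
  rw [← hpb y, show (pb y : HopfPts.Pt k A) = (τ (pb y) : HopfPts.Pt k A) *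
      (((τ (pb y))⁻¹ * pb y : (ptsOf (iB ≫ e.hom))) : HopfPts.Pt k A) by simp, map_mul, ← hz, ← _root_.mul_assoc,
    hfix _ (ε' i).2, ← ev_rtr]
  have h1 := congrArg (fun v : V => ev x (v : Γ(G.left, ⊤))) (hcT (pb y))
  simp only [borelRep_apply, Submodule.coe_smul, Algebra.smul_def, map_mul, ev_const] at h1
  exact h1


/-- The span of the translates of a function under the points of a Borel subgroup. -/
noncomputable def orbitSpan (f : Γ(G.left, ⊤)) : Submodule k Γ(G.left, ⊤) :=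
  Submodule.span k (Set.range fun b : ptsOf (iB ≫ e.hom) => rtr (toP e (b : HopfPts.Pt k A)) f)

theorem finiteDimensional_orbitSpan (f : Γ(G.left, ⊤)) : FiniteDimensional k (orbitSpan (iB := iB) e f) := by
  obtain ⟨V₀, hV₀, hV₀'⟩ := exists_orbit_bound (regular G) f
  haveI := hV₀
  refine Submodule.finiteDimensional_of_le (S₂ := V₀) (Submodule.span_le.mpr ?_)
  rintro _ ⟨b, rfl⟩
  have h := hV₀' (toP e (b : HopfPts.Pt k A))
  rw [act_regular] at h
  exact h

theorem orbitSpan_stable (f : Γ(G.left, ⊤)) (b : ptsOf (iB ≫ e.hom)) :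
    ∀ v ∈ orbitSpan (iB := iB) e f, rtr (toP e (b : HopfPts.Pt k A)) v ∈ orbitSpan (iB := iB) e f := by
  haveI : IsReduced G.left := Groth.Agent.Lib.GrpSch.isReduced_of_smooth_field G.hom
  intro v hv
  unfold orbitSpan at hv ⊢
  induction hv using Submodule.span_induction with
  | mem x hx =>
    obtain ⟨b', rfl⟩ := hx
    refine Submodule.subset_span ⟨b * b', ext_points fun x => ?_⟩
    simp only [ev_rtr, Subgroup.coe_mul, map_mul, _root_.mul_assoc]
  | zero => rw [map_zero]; exact zero_mem _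
  | add x y _ _ hx hy => rw [map_add]; exact add_mem hx hy
  | smul a x _ hx => rw [map_smul]; exact Submodule.smul_mem _ a hx

theorem orbitSpan_inv {u : U ⟶ B} (hU : Par.IsUnipotentRadical u) {f : Γ(G.left, ⊤)} (hf : Inv (u ≫ iB) f) :
    ∀ v ∈ orbitSpan (iB := iB) e f, Inv (u ≫ iB) v := by
  intro v hv
  unfold orbitSpan at hv
  induction hv using Submodule.span_induction with
  | mem x hx =>
    obtain ⟨b, rfl⟩ := hx
    obtain ⟨y, hy⟩ := exists_point_borel e b
    have h := inv_rtr hU hf y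
    rw [hy] at h
    exact h
  | zero => exact fun x h => by rw [map_zero, map_zero]
  | add x y _ _ hx hy => exact fun z h => by rw [map_add, map_add, hx z h, hy z h]
  | smul a x _ hx => exact fun z h => by rw [Algebra.smul_def, map_mul, map_mul, hx z h, ev_const, ev_const]

theorem mem_orbitSpan (f : Γ(G.left, ⊤)) : f ∈ orbitSpan (iB := iB) e f := by
  haveI : IsReduced G.left := Groth.Agent.Lib.GrpSch.isReduced_of_smooth_field G.hom
  refine Submodule.subset_span ⟨1, ext_points fun x => ?_⟩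
  simp only [ev_rtr, Subgroup.coe_one, map_one, _root_.mul_one]

/-- Invariants of the radical are sums of semi-invariants. -/
theorem mem_span_semi {u : U ⟶ B} (hU : Par.IsUnipotentRadical u)
    (hs : Split.IsSplit ((HopfPts.D k A).restrict _ hcl) (σ.comp (ptsOf (iB ≫ e.hom)).subtype) T Us τ)
    (hUs : ∀ s ∈ Us, ∃ z : P U, (z ≫ u ≫ iB : P G) = toP e (s : HopfPts.Pt k A))
    (pb : P B → ptsOf (iB ≫ e.hom)) (hpb : ∀ y, toP e (pb y : HopfPts.Pt k A) = y ≫ iB)
    (f : Γ(G.left, ⊤)) (hf : Inv (u ≫ iB) f) :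
    f ∈ Submodule.span k {f' | Inv (u ≫ iB) f' ∧ ∃ c, Semi iB c f'} :=
  haveI := finiteDimensional_orbitSpan (iB := iB) e f
  mem_span_semi_aux e hs hUs pb hpb _ (orbitSpan_stable e f) (orbitSpan_inv e hU hf) f (mem_orbitSpan e f)

set_option maxHeartbeats 800000 in
/-- The weight of a semi-invariant is a monomial in the weights of a faithful representation. -/
theorem exists_monomial {u : U ⟶ B} (hσ : GenRep.Gen (HopfPts.D k A) σ)
    (hs : Split.IsSplit ((HopfPts.D k A).restrict _ hcl) (σ.comp (ptsOf (iB ≫ e.hom)).subtype) T Us τ)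
    (hUs : ∀ s ∈ Us, ∃ z : P U, (z ≫ u ≫ iB : P G) = toP e (s : HopfPts.Pt k A))
    (pb : P B → ptsOf (iB ≫ e.hom)) (hpb : ∀ y, toP e (pb y : HopfPts.Pt k A) = y ≫ iB)
    (ε : Basis (Fin (finrank k W)) k W)
    (hε : ∀ t ∈ T, ∀ i, ∃ a : k, σ.comp (ptsOf (iB ≫ e.hom)).subtype t (ε i) = a • ε i)
    (c : P B → k) (f : Γ(G.left, ⊤)) (hf0 : f ≠ 0) (hf : Inv (u ≫ iB) f) (hc : Semi iB c f) :
    ∃ m : Fin (finrank k W) → ℕ, ∀ y,
      c y = ∏ i, ε.coord i (σ (τ (pb y) : HopfPts.Pt k A) (ε i)) ^ m i := by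
  classical
  haveI : IsReduced G.left := Groth.Agent.Lib.GrpSch.isReduced_of_smooth_field G.hom
  let χT : Fin (finrank k W) → (ptsOf (iB ≫ e.hom)) → k := fun i b => ε.coord i (σ (τ b : HopfPts.Pt k A) (ε i))
  obtain ⟨x₀, hx₀⟩ : ∃ x, ev x f ≠ 0 := by
    by_contra h
    push Not at h
    exact hf0 (ext_points fun x => by rw [h x, map_zero])
  have hcm : ∀ y y' : P B, c (y * y') = c y * c y' := fun y y' => mul_right_cancel₀ hx₀ (by
    rw [← hc, MonObj.mul_comp, ← _root_.mul_assoc, hc, hc]; ring)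
  have hc1 : c 1 = 1 := mul_right_cancel₀ hx₀ (by
    rw [← hc, MonObj.one_comp, _root_.mul_one, _root_.one_mul])
  choose yb hyb using fun b : (ptsOf (iB ≫ e.hom)) => exists_point_borel e b
  have hybm : ∀ b b', yb (b * b') = yb b * yb b' := fun b b' => by
    haveI : Mono iB := Over.mono_of_mono_left iB
    rw [← cancel_mono iB, MonObj.mul_comp, hyb, hyb, hyb, Subgroup.coe_mul, map_mul]
  have hyb1 : yb 1 = 1 := by
    haveI : Mono iB := Over.mono_of_mono_left iB
    rw [← cancel_mono iB, MonObj.one_comp, hyb, Subgroup.coe_one, map_one]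
  have hypb : ∀ y, yb (pb y) = y := fun y => by
    haveI : Mono iB := Over.mono_of_mono_left iB
    rw [← cancel_mono iB, hyb, hpb]
  have hcu : ∀ s ∈ Us, c (yb s) = 1 := fun s hs' => by
    obtain ⟨z, hz⟩ := hUs s hs'
    exact mul_right_cancel₀ hx₀ (by rw [← hc, hyb, ← hz, hf, _root_.one_mul])
  have hfac : ∀ b : (ptsOf (iB ≫ e.hom)), c (yb b) = c (yb (τ b)) := fun b => by
    have h := hcu ((τ b)⁻¹ * b) ((hs.tau_ker _).mp (by
      rw [map_mul, map_inv, hs.tau_fix _ (hs.tau_mem _), inv_mul_cancel]))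
    conv_lhs => rw [show b = τ b * ((τ b)⁻¹ * b) by group]
    rw [hybm, hcm, h, _root_.mul_one]
  let cT : T →* k :=
    { toFun := fun t => c (yb t)
      map_one' := by rw [Subgroup.coe_one, hyb1, hc1]
      map_mul' := fun t t' => by rw [Subgroup.coe_mul, hybm, hcm] }
  let χ₀ : Fin (finrank k W) → T →* k := fun i =>
    { toFun := fun t => ε.coord i (σ ((t : (ptsOf (iB ≫ e.hom))) : HopfPts.Pt k A) (ε i))
      map_one' := by
        rw [Subgroup.coe_one, Subgroup.coe_one, map_one, End.one_apply, Basis.coord_apply, Basis.repr_self,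
          Finsupp.single_eq_same]
      map_mul' := fun t t' => by
        obtain ⟨a, ha⟩ := hε _ t'.2 i
        have ha' : σ ((t' : (ptsOf (iB ≫ e.hom))) : HopfPts.Pt k A) (ε i) = a • ε i := ha
        rw [Subgroup.coe_mul, Subgroup.coe_mul, map_mul, End.mul_apply, ha', map_smul, map_smul, map_smul,
          Basis.coord_apply, Basis.coord_apply, Basis.repr_self, Finsupp.single_eq_same, smul_eq_mul, smul_eq_mul,
          _root_.mul_one, mul_comm] }
  let S₀ : Submonoid (T →* k) := Submonoid.closure (Set.range χ₀)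
  let Sp : Subalgebra k (T → k) := Algebra.adjoin k ((fun χ : T →* k => (χ : T → k)) '' Set.range χ₀)
  have hmemc : (cT : T → k) ∈ Sp := by
    obtain ⟨z, hz⟩ := exists_coord e f
    let pull : (HopfPts.Pt k A → k) →ₐ[k] (T → k) := (Alg.res T).comp (Alg.res (ptsOf (iB ≫ e.hom)))
    have hle : (HopfPts.D k A).R ≤ Sp.comap pull := hσ.gen.trans (Algebra.adjoin_le (by
      rintro _ ⟨w, l, rfl⟩
      have : pull (fun g => l (σ g w)) = ∑ i, (ε.repr w i * l (ε i)) • (χ₀ i : T → k) := funext fun t => by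
        show l (σ ((t : (ptsOf (iB ≫ e.hom))) : HopfPts.Pt k A) w) = _
        rw [Finset.sum_apply]
        conv_lhs => rw [← ε.sum_repr w, map_sum, map_sum]
        refine Finset.sum_congr rfl fun i _ => ?_
        obtain ⟨a, ha⟩ := hε _ t.2 i
        have ha' : σ ((t : (ptsOf (iB ≫ e.hom))) : HopfPts.Pt k A) (ε i) = a • ε i := ha
        rw [map_smul, ha', map_smul, map_smul, Pi.smul_apply, smul_eq_mul, smul_eq_mul, smul_eq_mul]
        show _ = _ * ε.coord i (σ ((t : (ptsOf (iB ≫ e.hom))) : HopfPts.Pt k A) (ε i))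
        rw [ha', map_smul, Basis.coord_apply, Basis.repr_self, Finsupp.single_eq_same, smul_eq_mul]
        ring
      show pull _ ∈ Sp
      rw [this]
      exact Subalgebra.sum_mem _ fun i _ => Subalgebra.smul_mem _ (Algebra.subset_adjoin (s := (fun χ : T →* k => (χ : T → k)) '' Set.range χ₀) ⟨χ₀ i, ⟨i, rfl⟩, rfl⟩) _))
    -- translate `f` to the base point
    have hg : (fun χ : HopfPts.Pt k A => (ev x₀ f)⁻¹ * ev (x₀ * toP e χ) f) ∈ (HopfPts.D k A).R := by
      obtain ⟨z', hz'⟩ := exists_coord e (ltr x₀ f)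
      refine ⟨(ev x₀ f)⁻¹ • z', funext fun χ => ?_⟩
      show χ.ofConv ((ev x₀ f)⁻¹ • z') = _
      rw [map_smul, smul_eq_mul, ← hz', ev_ltr]
    have h1 : pull (fun χ : HopfPts.Pt k A => (ev x₀ f)⁻¹ * ev (x₀ * toP e χ) f) ∈ Sp := hle hg
    have h2 : pull (fun χ : HopfPts.Pt k A => (ev x₀ f)⁻¹ * ev (x₀ * toP e χ) f) = (cT : T → k) := funext fun t => by
      show (ev x₀ f)⁻¹ * ev (x₀ * toP e ((t : (ptsOf (iB ≫ e.hom))) : HopfPts.Pt k A)) f = c (yb t)
      rw [← hyb, hc, mul_comm (c (yb t)), inv_mul_cancel_left₀ hx₀]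
    rwa [h2] at h1
  have hS₀ : cT ∈ S₀ := by
    by_contra hnot
    refine ((linearIndependent_monoidHom T k).notMem_span_image (s := (S₀ : Set (T →* k))) hnot) ?_
    have h1 : (cT : T → k) ∈ Subalgebra.toSubmodule Sp := hmemc
    rw [Algebra.adjoin_eq_span] at h1
    refine Submodule.span_le.mpr ?_ h1
    intro φ hφ
    refine Submodule.subset_span ?_
    induction hφ using Submonoid.closure_induction with
    | mem x hx =>
      obtain ⟨χ, hχ, rfl⟩ := hx
      exact ⟨χ, Submonoid.subset_closure hχ, rfl⟩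
    | one => exact ⟨1, one_mem _, rfl⟩
    | mul x y _ _ hx hy =>
      obtain ⟨χ, hχ, rfl⟩ := hx
      obtain ⟨χ', hχ', rfl⟩ := hy
      exact ⟨χ * χ', mul_mem hχ hχ', rfl⟩
  obtain ⟨m, hm⟩ := (Submonoid.mem_closure_range_iff_of_fintype).mp hS₀
  refine ⟨m, fun y => ?_⟩
  rw [← hypb y, hfac]
  have h1 := DFunLike.congr_fun hm ⟨τ (pb y), hs.tau_mem _⟩
  show c (yb (τ (pb y))) = ∏ i, χT i (pb (yb (pb y))) ^ m i
  rw [hypb]
  refine Eq.trans (show c (yb (τ (pb y))) = cT ⟨τ (pb y), hs.tau_mem _⟩ from rfl) ?_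
  rw [h1]
  simp [χ₀, χT, MonoidHom.finsetProd_apply]


end Aux

/-- The invariants of the unipotent radical are spanned by semi-invariants, with finitely generated weights. -/
theorem exists_weights {iB : B ⟶ G} (hB : Red.IsBorelOver k iB) {u : U ⟶ B} (hU : Par.IsUnipotentRadical u) :
    ∃ (n : ℕ) (χ : Fin n → P B → k), (∀ i y, χ i y ≠ 0) ∧
      (∀ f, Inv (u ≫ iB) f → f ∈ Submodule.span k {f' | Inv (u ≫ iB) f' ∧ ∃ c, Semi iB c f'}) ∧
      ∀ (c : P B → k) f, f ≠ 0 → Inv (u ≫ iB) f → Semi iB c f →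
        ∃ m : Fin n → ℕ, ∀ y, c y = ∏ i, χ i y ^ m i := by
  classical
  haveI := hB.1
  haveI := hB.2.1
  haveI := hU.1
  obtain ⟨A, _, _, _, _, e, he⟩ := exists_GA G
  haveI := he
  haveI := locallyOfFiniteType (k := k) (A := A)
  have hbor := isBor_ptsOf (iB ≫ e.hom) (isBorelOver_comp hB e)
  obtain ⟨W, _, σ, hσ⟩ := GenRep.exists_gen (HopfPts.D k A) hasMul_pts pts_ext
  have hσB := GenRep.Gen.restrict (HopfPts.D k A) hσ (ptsOf (iB ≫ e.hom)) hbor.cl
  have hirrB : ((HopfPts.D k A).restrict _ hbor.cl).SIrr Set.univ :=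
    ((HopfPts.D k A).sirr_restrict).mpr (by rw [Set.image_univ, Subtype.range_coe_subtype]; exact hbor.irr)
  haveI := hbor.solv
  obtain ⟨T, Us, τ, hs⟩ := Split.exists_split _ hirrB (σ.comp (ptsOf (iB ≫ e.hom)).subtype) hσB
  have hUs := unipotent_mem_radical e hB hU hσ hs
  have hpb' : ∀ y : P B, ∃ b : ptsOf (iB ≫ e.hom), toP e (b : HopfPts.Pt k A) = y ≫ iB := fun y => by
    obtain ⟨χ, hχ⟩ := toP_surjective e (y ≫ iB)
    exact ⟨⟨χ, y, by rw [← toP_comp e, hχ, Category.assoc]; rfl⟩, hχ⟩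
  choose pb hpb using hpb'
  obtain ⟨ε, hε⟩ := hs.diag
  refine ⟨finrank k W, fun i y => ε.coord i (σ (τ (pb y) : HopfPts.Pt k A) (ε i)), fun i y h0 => ?_,
    mem_span_semi e hU hs hUs pb hpb, exists_monomial e hσ hs hUs pb hpb ε hε⟩
  obtain ⟨a, ha⟩ := hε _ (hs.tau_mem (pb y)) i
  have ha' : σ (τ (pb y) : HopfPts.Pt k A) (ε i) = a • ε i := ha
  have h0' : ε.coord i (σ (τ (pb y) : HopfPts.Pt k A) (ε i)) = 0 := h0
  rw [ha', map_smul, Basis.coord_apply, Basis.repr_self, Finsupp.single_eq_same, smul_eq_mul, _root_.mul_one] at h0'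
  rw [h0', zero_smul] at ha'
  have h2 := congrArg (σ ((τ (pb y) : HopfPts.Pt k A))⁻¹) ha'
  rw [← End.mul_apply, ← map_mul, inv_mul_cancel, map_one, End.one_apply, map_zero] at h2
  exact ε.ne_zero i h2

end Groth.Agent.H1.Obs.UFG
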