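import Groth.Agent.H1.Obs.UFG.DivMonoid
import Groth.Agent.H1.Obs.UFG.Cell
import Groth.Agent.H1.Obs.UFG.Lift
import Groth.Agent.H1.Obs.UFG.Torus
import Groth.Agent.H1.Obs.TransferFG
import Groth.Agent.H1.Obs.Semi
import Groth.Agent.H25.NagataStalk
import Groth.Agent.Lib.Normalization.Relative
import Groth.Agent.Lib.Cohen.NagataFiniteType
import Groth.Agent.Lib.Flat55.SmoothBCNormalization

/-!
# The invariants of a maximal unipotent subgroup of a connected group are finitely generated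
-/

universe u

open CategoryTheory Limits MonoidalCategory CartesianMonoidalCategory MonObj GrpObj AlgebraicGeometry
open scoped TensorProduct

namespace Groth.Agent.H1.Obs.UFG

set_option linter.style.haveILetI false
set_option linter.unusedSectionVars false

open Groth.Agent.Lib.RedPts Groth.Agent.Lib.RedPts.Points Classical Classical.Scheme' Groth.Agent.H1.RInv WithConv
  Classical.MaxTorusScheme Classical.MaxTorusApply

attribute [local instance] baseAlgebra _root_.Classical.propDecidable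

variable {k : Type u} [Field k] [IsAlgClosed k]

section Helpers

variable (G : Over (Spec (CommRingCat.of k))) [GrpObj G] [IsAffine G.left] [Smooth G.hom]

theorem smooth_Γ : Algebra.Smooth k Γ(G.left, ⊤) :=
  RingHom.Smooth.comp (RingHom.Smooth.of_bijective (f := (Scheme.ΓSpecIso (CommRingCat.of k)).inv.hom)
      (ConcreteCategory.bijective_of_isIso (Scheme.ΓSpecIso (CommRingCat.of k)).inv))
    (HasRingHomProperty.appTop (P := @Smooth) G.hom inferInstance)

/-- Functions without common zeros generate the unit ideal. -/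
theorem exists_cover {f : Γ(G.left, ⊤)} (hf : f ≠ 0) :
    ∃ s : Finset (P G), (1 : Γ(G.left, ⊤)) ∈ Ideal.span ((s.image fun g => ltr g f : Finset _) : Set Γ(G.left, ⊤)) := by
  classical
  haveI : IsReduced G.left := Groth.Agent.Lib.GrpSch.isReduced_of_smooth_field G.hom
  obtain ⟨z, hz⟩ : ∃ z : P G, ev z f ≠ 0 := by
    by_contra h
    push Not at h
    exact hf (ext_points fun x => by rw [h x, map_zero])
  have h1 : (1 : Γ(G.left, ⊤)) ∈ Ideal.span (Set.range fun g : P G => ltr g f) := by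
    by_contra h
    obtain ⟨x, hx, -⟩ := exists_point_ne (Ideal.span (Set.range fun g : P G => ltr g f)).radical
      (Ideal.radical_isRadical _) (g := 1) fun h' => h (by
        rw [← Ideal.eq_top_iff_one, Ideal.radical_eq_top, Ideal.eq_top_iff_one] at h'
        exact h')
    have := hx _ (Ideal.le_radical (Ideal.subset_span ⟨z * x⁻¹, rfl⟩))
    rw [ev_ltr, inv_mul_cancel_right] at this
    exact hz this
  obtain ⟨T, hT, h1T⟩ := Submodule.mem_span_finite_of_mem_span h1
  choose g hg using fun t : T => hT t.2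
  refine ⟨Finset.univ.image g, Ideal.span_mono ?_ h1T⟩
  intro t ht
  rw [Finset.coe_image]
  exact ⟨g ⟨t, ht⟩, Finset.mem_coe.mpr (Finset.mem_image.mpr ⟨_, Finset.mem_univ _, rfl⟩), hg ⟨t, ht⟩⟩

end Helpers

variable {G B : Over (Spec (CommRingCat.of k))} [GrpObj G] [GrpObj B] [IsAffine G.left] [Smooth G.hom]

theorem Semi.ltr {iB : B ⟶ G} {c : P B → k} {f : Γ(G.left, ⊤)} (hf : Semi iB c f) (g : P G) :
    Semi iB c (Obs.ltr g f) := fun x y => by
  rw [ev_ltr, ev_ltr, ← _root_.mul_assoc, hf]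

section Connected

variable [ConnectedSpace G.left] {iB : B ⟶ G}

/-- A connected solvable group with an open double coset against a Borel subgroup. -/
theorem exists_solvable_cell (hB : Red.IsBorelOver k iB) :
    ∃ (H : Over (Spec (CommRingCat.of k))) (_ : GrpObj H) (iH : H ⟶ G) (_ : IsMonHom iH) (h : Γ(G.left, ⊤)),
      IsAffine H.left ∧ Smooth H.hom ∧ ConnectedSpace H.left ∧ Red.IsSolvableGrp H ∧ h ≠ 0 ∧
      ∀ x : P G, ev x h ≠ 0 → ∃ (s : P H) (y : P B), x = (s ≫ iH) * (y ≫ iB) := by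
  haveI := hB.1
  haveI := hB.2.1
  haveI : IsReduced G.left := Groth.Agent.Lib.GrpSch.isReduced_of_smooth_field G.hom
  obtain ⟨A, _, _, _, _, e, he⟩ := exists_GA G
  haveI := he
  haveI := locallyOfFiniteType (k := k) (A := A)
  haveI : IsMonHom e.inv := inferInstance
  haveI : IsIso e.hom.left := ((Over.forget _).mapIso e).isIso_hom
  haveI : IsIso e.inv.left := ((Over.forget _).mapIso e).isIso_inv
  haveI : Algebra.Smooth k A := by
    have h : Smooth (GA k A).hom := by rw [← Over.w e.inv]; infer_instance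
    have h' : Smooth (Spec.map (CommRingCat.ofHom (algebraMap k A))) := h
    rw [HasRingHomProperty.Spec_iff (P := @Smooth)] at h'
    exact RingHom.smooth_algebraMap.mp h'
  obtain ⟨S, h, hcl, hirr, hsol, hh0, hcell⟩ := exists_open_cell (isBor_ptsOf (iB ≫ e.hom) (isBorelOver_comp hB e))
  haveI := hsol
  obtain ⟨C, _, c, hc1, hc2, hc3, hc4, hc5, hfac, -⟩ := exists_subgroup S hcl hirr
  haveI := hc1
  haveI := hc2
  obtain ⟨h₁, hh₁⟩ := exists_fun e h
  refine ⟨C, inferInstance, c ≫ e.inv, inferInstance, h₁, isAffine_of_isAffineHom c.left, hc3, hc4, hc5,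
    fun h0 => hh0 (HopfPts.ev_injective k A (funext fun χ => ?_)), fun x hx => ?_⟩
  · rw [map_zero]
    show χ.ofConv h = 0
    rw [← hh₁, h0, map_zero]
  · obtain ⟨χ, rfl⟩ := toP_surjective e x
    rw [hh₁] at hx
    obtain ⟨s, hs, b, hb, rfl⟩ := hcell χ hx
    obtain ⟨z, hz⟩ := hfac (𝟙_ _) (ptHom _ s) fun a ha => by rw [algHomOf_ptHom, ha _ hs, map_zero]
    obtain ⟨y, hy⟩ := exists_point_borel e (iB := iB) ⟨b, hb⟩
    refine ⟨z, y, ?_⟩
    rw [map_mul, hy]
    congr 1
    rw [← cancel_mono e.hom, toP_comp]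
    simp [reassoc_of% hz]

variable {U : Over (Spec (CommRingCat.of k))} [GrpObj U] {u : U ⟶ B}

/-- A finite set of semi-invariants whose weights generate all weights. -/
theorem exists_weight_gens (hB : Red.IsBorelOver k iB) (hU : Par.IsUnipotentRadical u) :
    ∃ F : Finset Γ(G.left, ⊤), (∀ f ∈ F, f ≠ 0 ∧ Inv (u ≫ iB) f ∧ ∃ c, Semi iB c f) ∧
      ∀ (c : P B → k) f, f ≠ 0 → Inv (u ≫ iB) f → Semi iB c f →
        c ∈ Submonoid.closure {c' | ∃ f' ∈ F, Semi iB c' f'} := by
  classical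
  haveI := hB.1
  haveI := hB.2.1
  haveI : Smooth B.hom := hB.2.2.1
  haveI : IsAffine B.left := isAffine_of_isAffineHom iB.left
  haveI : IsReduced G.left := Groth.Agent.Lib.GrpSch.isReduced_of_smooth_field G.hom
  haveI := Groth.Agent.H1.Obs.isDomain_functions G
  haveI := smooth_Γ G
  haveI : IsIntegrallyClosed Γ(G.left, ⊤) := Lib.Flat55.SmoothBCNormalization.isIntegrallyClosed_of_smooth k
  haveI : IsNoetherianRing Γ(G.left, ⊤) := RInv.isNoetherianRing_Γ (G := G)
  obtain ⟨n, χ, hχ0, -, hmono⟩ := exists_weights hB hU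
  obtain ⟨H, _, iH, hiH, h, hH1, hH2, hH3, hH4, hh0, hcell⟩ := exists_solvable_cell hB
  haveI := hiH
  haveI := hH1
  haveI := hH2
  haveI := hH3
  have hwne : ∀ {H' : Over (Spec (CommRingCat.of k))} [GrpObj H'] (j : H' ⟶ G) [IsMonHom j] (d : P H' → k)
      (f : Γ(G.left, ⊤)), f ≠ 0 → (∀ x s, ev (x * (s ≫ j)) f = d s * ev x f) → ∀ s, d s ≠ 0 := by
    intro H' _ j _ d f hf hd s hs
    refine hf (ext_points fun x => ?_)
    have h1 := hd (x * (s ≫ j)⁻¹) s
    rw [inv_mul_cancel_right, hs, zero_mul] at h1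
    rw [h1, map_zero]
  let Lft : Γ(G.left, ⊤) → Prop := fun f => ∃ d : P H → k, ∀ s x, ev ((s ≫ iH) * x) f = d s * ev x f
  let Φ : Set Γ(G.left, ⊤) := {f | f ≠ 0 ∧ Inv (u ≫ iB) f ∧ (∃ c, Semi iB c f) ∧ Lft f}
  have hne : ∀ f ∈ Φ, ∀ x, ev x h ≠ 0 → ev x f ≠ 0 := by
    rintro f ⟨hf0, -, ⟨c, hc⟩, d, hd⟩ x hx hx0
    have hform : ∀ x, ev x h ≠ 0 → ∃ a : k, a ≠ 0 ∧ ev x f = a * ev 1 f := fun x hx => by
      obtain ⟨s, y, rfl⟩ := hcell x hx
      refine ⟨c y * d s, mul_ne_zero (hwne iB c f hf0 hc y) fun h0 => hf0 (ext_points fun x => ?_), ?_⟩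
      · have h1 := hd s ((s ≫ iH)⁻¹ * x)
        rw [mul_inv_cancel_left, h0, zero_mul] at h1
        rw [h1, map_zero]
      · rw [hc, ← _root_.mul_one (s ≫ iH), hd, _root_.mul_assoc]
    have h1 : ev (1 : P G) f = 0 := by
      obtain ⟨a, ha, he⟩ := hform x hx
      rw [hx0] at he
      exact (mul_eq_zero.mp he.symm).resolve_left ha
    refine mul_ne_zero hf0 hh0 (ext_points fun x => ?_)
    rw [map_mul, map_zero]
    by_cases hxh : ev x h = 0
    · rw [hxh, mul_zero]
    · obtain ⟨a, -, he⟩ := hform x hxh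
      rw [he, h1, mul_zero, zero_mul]
  have hdvd : ∀ f ∈ Φ, ∃ m, f ∣ h ^ m := fun f hf => by
    have hmem : h ∈ (Ideal.span {f}).radical := by
      by_contra hh
      obtain ⟨x, hx, hxh⟩ := exists_point_ne _ (Ideal.radical_isRadical _) hh
      exact hne f hf x hxh (hx f (Ideal.le_radical (Ideal.mem_span_singleton_self f)))
    obtain ⟨m, hm⟩ := hmem
    exact ⟨m, Ideal.mem_span_singleton.mp hm⟩
  have hdiv : ∀ f ∈ Φ, ∀ g ∈ Φ, ∀ q, f = g * q → q ∈ Φ := by
    rintro f ⟨hf0, hfi, ⟨cf, hcf⟩, df, hdf⟩ g ⟨hg0, hgi, ⟨cg, hcg⟩, dg, hdg⟩ q rfl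
    have hcanc : ∀ (φ : Γ(G.left, ⊤) →ₐ[k] Γ(G.left, ⊤)) (a b : k), a ≠ 0 →
        (∀ x, ev x (φ g) = a * ev x g) → (∀ x, ev x (φ (g * q)) = b * ev x (g * q)) →
          ∀ x, ev x (φ q) = b / a * ev x q := by
      intro φ a b ha hg hfq x
      have h1 : g * (a • φ q - b • q) = 0 := ext_points fun z => by
        have h2 := hfq z
        rw [map_mul, map_mul, hg, map_mul] at h2
        rw [map_zero, map_mul, map_sub, Algebra.smul_def, Algebra.smul_def, map_mul, map_mul, ev_const, ev_const]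
        linear_combination h2
      have h3 := congrArg (ev x) (sub_eq_zero.mp ((mul_eq_zero.mp h1).resolve_left hg0))
      rw [Algebra.smul_def, Algebra.smul_def, map_mul, map_mul, ev_const, ev_const] at h3
      rw [div_mul_eq_mul_div, eq_div_iff ha, mul_comm, h3]
    refine ⟨fun hq => hf0 (by rw [hq, mul_zero]), fun x s => ?_, ⟨fun y => cf y / cg y, fun x y => ?_⟩,
      fun s => df s / dg s, fun s x => ?_⟩
    · have h1 := hcanc (rtr (s ≫ u ≫ iB)) 1 1 one_ne_zero
        (fun x => by rw [ev_rtr, hgi, _root_.one_mul]) (fun x => by rw [ev_rtr, hfi, _root_.one_mul]) x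
      rwa [ev_rtr, div_one, _root_.one_mul] at h1
    · have h1 := hcanc (rtr (y ≫ iB)) (cg y) (cf y) (hwne iB cg g hg0 hcg y)
        (fun x => by rw [ev_rtr, hcg]) (fun x => by rw [ev_rtr, hcf]) x
      rwa [ev_rtr] at h1
    · have hd0 : dg s ≠ 0 := fun h0 => hg0 (ext_points fun x => by
        have h1 := hdg s ((s ≫ iH)⁻¹ * x)
        rw [mul_inv_cancel_left, h0, zero_mul] at h1
        rw [h1, map_zero])
      have h1 := hcanc (ltr (s ≫ iH)) (dg s) (df s) hd0
        (fun x => by rw [ev_ltr, hdg]) (fun x => by rw [ev_ltr, hdf]) x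
      rwa [ev_ltr] at h1
  have hone : (1 : Γ(G.left, ⊤)) ∈ Φ :=
    ⟨one_ne_zero, fun x s => by rw [map_one, map_one], ⟨fun _ => 1, fun x y => by rw [map_one, map_one, _root_.mul_one]⟩,
      fun _ => 1, fun s x => by rw [map_one, map_one, _root_.mul_one]⟩
  obtain ⟨F, hF, hgen⟩ := exists_divGens hh0 Φ hdvd hdiv
  let θ : (Fin n → ℤ) → P B → k := fun m y => ∏ i, χ i y ^ m i
  have hθadd : ∀ m m', θ (m + m') = θ m * θ m' := fun m m' => funext fun y => by
    simp only [θ, Pi.add_apply, Pi.mul_apply, zpow_add₀ (hχ0 _ y), Finset.prod_mul_distrib]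
  have hθneg : ∀ m, θ (-m) * θ m = 1 := fun m => by
    rw [← hθadd, neg_add_cancel]
    funext y
    simp [θ]
  have hwt : ∀ f ∈ Φ, ∃ m, Semi iB (θ m) f := by
    rintro f ⟨hf0, hfi, ⟨c, hc⟩, -⟩
    obtain ⟨m, hm⟩ := hmono c f hf0 hfi hc
    refine ⟨fun i => m i, fun x y => ?_⟩
    rw [hc, hm]
    simp [θ]
  have huniq : ∀ {c c' : P B → k} {f}, f ≠ 0 → Semi iB c f → Semi iB c' f → c = c' := by
    intro c c' f hf0 hc hc'
    obtain ⟨z, hz⟩ : ∃ z : P G, ev z f ≠ 0 := by
      by_contra h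
      push Not at h
      exact hf0 (ext_points fun x => by rw [h x, map_zero])
    exact funext fun y => mul_right_cancel₀ hz ((hc z y).symm.trans (hc' z y))
  let X : AddSubgroup (Fin n → ℤ) :=
    { carrier := {m | ∃ f ∈ Φ, IsUnit f ∧ Semi iB (θ m) f}
      zero_mem' := ⟨1, hone, isUnit_one, fun x y => by
        rw [map_one, map_one, _root_.mul_one, show θ 0 y = 1 by simp [θ]]⟩
      add_mem' := by
        rintro m m' ⟨f, hf, hfu, hfm⟩ ⟨g, hg, hgu, hgm⟩
        have hmul : f * g ∈ Φ := by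
          obtain ⟨hf0, hfi, ⟨c, hc⟩, d, hd⟩ := hf
          obtain ⟨hg0, hgi, ⟨c', hc'⟩, d', hd'⟩ := hg
          exact ⟨mul_ne_zero hf0 hg0, fun x s => by rw [map_mul, map_mul, hfi, hgi], ⟨_, hc.mul hc'⟩,
            fun s => d s * d' s, fun s x => by rw [map_mul, map_mul, hd, hd']; ring⟩
        refine ⟨f * g, hmul, hfu.mul hgu, ?_⟩
        rw [hθadd]
        exact hfm.mul hgm
      neg_mem' := by
        rintro m ⟨f, hf, hfu, hfm⟩
        obtain ⟨g, hfg⟩ := hfu.exists_right_inv
        have hgΦ := hdiv 1 hone f hf g hfg.symm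
        refine ⟨g, hgΦ, IsUnit.of_mul_eq_one f (by rw [mul_comm, hfg]), ?_⟩
        obtain ⟨m', hm'⟩ := hwt g hgΦ
        have h1 : θ m * θ m' = 1 := huniq one_ne_zero (hfg ▸ hfm.mul hm')
          fun x y => by rw [map_one, map_one, Pi.one_apply, _root_.mul_one]
        have h2 : θ m' = θ (-m) := by rw [← _root_.one_mul (θ m'), ← hθneg m, _root_.mul_assoc, h1, _root_.mul_one]
        rw [← h2]
        exact hm' }
  obtain ⟨gens, hgens⟩ : (AddSubgroup.toIntSubmodule X).FG :=
    (isNoetherian_def.mp (isNoetherian_of_isNoetherianRing_of_finite ℤ (Fin n → ℤ))) _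
  have hgX : ∀ m ∈ gens, m ∈ X := fun m hm => by
    have h := hgens.le (Submodule.subset_span (Finset.mem_coe.mpr hm))
    exact h
  choose gp hgp1 hgp2 hgp3 using hgX
  choose gn hgn1 hgn2 hgn3 using fun m (hm : m ∈ gens) =>
    (X.neg_mem (show m ∈ X from hgens.le (Submodule.subset_span (Finset.mem_coe.mpr hm))) : -m ∈ X)
  let F' : Finset Γ(G.left, ⊤) := F ∪ gens.attach.image (fun m => gp m.1 m.2) ∪ gens.attach.image (fun m => gn m.1 m.2)
  have hF' : ∀ f ∈ F', f ∈ Φ := by
    intro f hf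
    simp only [F', Finset.mem_union, Finset.mem_image] at hf
    rcases hf with (hf | ⟨m, -, rfl⟩) | ⟨m, -, rfl⟩
    · exact hF hf
    · exact hgp1 _ _
    · exact hgn1 _ _
  refine ⟨F', fun f hf => ⟨(hF' f hf).1, (hF' f hf).2.1, (hF' f hf).2.2.1⟩, ?_⟩
  set Mo := Submonoid.closure {c' : P B → k | ∃ f' ∈ F', Semi iB c' f'}
  have hX : ∀ m ∈ X, θ m ∈ Mo ∧ θ (-m) ∈ Mo := by
    intro m hm
    have hm' : m ∈ Submodule.span ℤ (gens : Set (Fin n → ℤ)) := hgens.symm.le hm
    rw [← Submodule.mem_toAddSubgroup, Submodule.span_int_eq_addSubgroupClosure] at hm'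
    clear hm
    induction hm' using AddSubgroup.closure_induction with
    | mem z hz =>
      have hz' := Finset.mem_coe.mp hz
      refine ⟨Submonoid.subset_closure ⟨gp z hz', ?_, hgp3 z hz'⟩, Submonoid.subset_closure ⟨gn z hz', ?_, hgn3 z hz'⟩⟩
      · exact Finset.mem_union_left _ (Finset.mem_union_right _ (Finset.mem_image.mpr ⟨⟨z, hz'⟩, Finset.mem_attach _ _, rfl⟩))
      · exact Finset.mem_union_right _ (Finset.mem_image.mpr ⟨⟨z, hz'⟩, Finset.mem_attach _ _, rfl⟩)
    | zero =>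
      have : θ 0 = 1 := funext fun y => by simp [θ]
      rw [neg_zero, this]
      exact ⟨one_mem _, one_mem _⟩
    | add a b _ _ ha hb => exact ⟨by rw [hθadd]; exact mul_mem ha.1 hb.1, by rw [neg_add, hθadd]; exact mul_mem ha.2 hb.2⟩
    | neg a _ ha => exact ⟨ha.2, by rw [neg_neg]; exact ha.1⟩
  intro c f hf0 hfi hc
  -- a left semi-invariant of the same weight
  let W : Submodule k Γ(G.left, ⊤) :=
    { carrier := {f | Inv (u ≫ iB) f ∧ Semi iB c f}
      zero_mem' := ⟨fun x s => by rw [map_zero, map_zero], fun x y => by rw [map_zero, map_zero, mul_zero]⟩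
      add_mem' := fun {a b} ha hb => ⟨fun x s => by rw [map_add, map_add, ha.1, hb.1],
        fun x y => by rw [map_add, map_add, ha.2, hb.2, mul_add]⟩
      smul_mem' := fun r a ha => ⟨fun x s => by rw [Algebra.smul_def, map_mul, map_mul, ha.1, ev_const, ev_const],
        fun x y => by rw [Algebra.smul_def, map_mul, map_mul, ha.2, ev_const, ev_const]; ring⟩ }
  obtain ⟨v, hv, hv0, ξ, -, hξ⟩ := exists_eigen iH (regularL G) hH4 W
    (fun hbot => hf0 (by
      have : f ∈ W := ⟨hfi, hc⟩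
      rwa [hbot, Submodule.mem_bot] at this))
    fun s w hw => by
      rw [act_regularL]
      exact ⟨hw.1.ltr _ _, hw.2.ltr _⟩
  have hvΦ : v ∈ Φ := by
    refine ⟨hv0, hv.1, ⟨c, hv.2⟩, fun s => ev s⁻¹ (Red.gmFn ξ), fun s x => ?_⟩
    have h1 := congrArg (ev x) (hξ s⁻¹)
    rw [act_regularL, ev_ltr, GrpObj.inv_comp, _root_.inv_inv, Algebra.smul_def, map_mul, ev_const] at h1
    exact h1
  obtain ⟨l, hl, w, hw, hwu, hvw⟩ := hgen v hvΦ
  have hprod : ∀ l : List Γ(G.left, ⊤), (∀ x ∈ l, x ∈ F') → ∃ c ∈ Mo, Semi iB c l.prod ∧ l.prod ≠ 0 := by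
    intro l
    induction l with
    | nil => exact fun _ => ⟨1, one_mem _, fun x y => by rw [List.prod_nil, map_one, map_one, Pi.one_apply, _root_.one_mul], one_ne_zero⟩
    | cons a l ih =>
      intro hl
      obtain ⟨c', hc', hs, h0⟩ := ih fun x hx => hl x (List.mem_cons_of_mem _ hx)
      obtain ⟨ha0, -, ⟨ca, hca⟩, -⟩ := hF' a (hl a (List.mem_cons.mpr (Or.inl rfl)))
      exact ⟨ca * c', mul_mem (Submonoid.subset_closure ⟨a, hl a (List.mem_cons.mpr (Or.inl rfl)), hca⟩) hc',
        by rw [List.prod_cons]; exact hca.mul hs, by rw [List.prod_cons]; exact mul_ne_zero ha0 h0⟩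
  obtain ⟨c', hc', hs, -⟩ := hprod l fun x hx => Finset.mem_union_left _ (Finset.mem_union_left _ (hl x hx))
  obtain ⟨m, hm⟩ := hwt w hw
  have hcc : c = c' * θ m := huniq hv0 hv.2 (hvw ▸ hs.mul hm)
  rw [hcc]
  exact mul_mem hc' (hX m ⟨w, hw, hwu, hm⟩).1

set_option maxHeartbeats 800000 in
/-- The invariants of the unipotent radical of a Borel subgroup of a connected group are finitely generated. -/
theorem fg_connected (hB : Red.IsBorelOver k iB) (hU : Par.IsUnipotentRadical u) :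
    (invAlg (G := G) (u ≫ iB)).FG := by
  classical
  haveI := hB.1
  haveI := hB.2.1
  haveI : Smooth B.hom := hB.2.2.1
  haveI : IsAffine B.left := isAffine_of_isAffineHom iB.left
  haveI : IsReduced G.left := Groth.Agent.Lib.GrpSch.isReduced_of_smooth_field G.hom
  haveI : IsReduced B.left := Groth.Agent.Lib.GrpSch.isReduced_of_smooth_field B.hom
  haveI := Groth.Agent.H1.Obs.isDomain_functions G
  haveI : Algebra.FiniteType k Γ(G.left, ⊤) := RInv.finiteType_Γ (G := G)
  obtain ⟨n, χ, -, hspan, -⟩ := exists_weights hB hU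
  obtain ⟨F, hF, hgen⟩ := exists_weight_gens hB hU
  choose cover hcover using fun (f : Γ(G.left, ⊤)) (hf : f ∈ F) => exists_cover G (hF f hf).1
  let gens : Finset Γ(G.left, ⊤) := F.attach.biUnion fun f => (cover f.1 f.2).image fun g => ltr g f.1
  have hgens : ∀ w ∈ gens, Inv (u ≫ iB) w := by
    intro w hw
    simp only [gens, Finset.mem_biUnion, Finset.mem_image] at hw
    obtain ⟨f, -, g, -, rfl⟩ := hw
    exact (hF f.1 f.2).2.1.ltr _ g
  let S₀ : Subalgebra k Γ(G.left, ⊤) := Algebra.adjoin k (gens : Set Γ(G.left, ⊤))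
  have hS₀R : S₀ ≤ invAlg (u ≫ iB) := Algebra.adjoin_le fun w hw => hgens w hw
  let K := FractionRing Γ(G.left, ⊤)
  let φ : Γ(G.left, ⊤) →ₐ[k] K := IsScalarTower.toAlgHom k Γ(G.left, ⊤) K
  -- integrality
  have hint : ∀ (c : P B → k) (f : Γ(G.left, ⊤)), f ≠ 0 → Inv (u ≫ iB) f → Semi iB c f →
      IsIntegral S₀ (algebraMap Γ(G.left, ⊤) K f) := by
    intro c f hf0 hfi hc
    let R₀ : Subring K := (algebraMap S₀ K).range
    suffices hV : ∀ V : ValuationSubring K, (R₀ : Set K) ⊆ V.toSubring → φ f ∈ V by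
      have h1 : φ f ∈ (integralClosure (Subring.closure (R₀ : Set K)) K).toSubring := by
        rw [← iInf_valuationSubring_superset, Subring.mem_iInf]
        exact fun V => hV V.1 V.2
      have h2 : IsIntegral (Subring.closure (R₀ : Set K)) (φ f) := h1
      rw [Subring.closure_eq] at h2
      obtain ⟨p, hp, hpf⟩ := h2
      have hlift : p ∈ Polynomial.lifts (algebraMap S₀ K).rangeRestrict := by
        rw [Polynomial.lifts_iff_coeff_lifts]
        exact fun i => RingHom.rangeRestrict_surjective _ (p.coeff i)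
      obtain ⟨q, hq, -, hqm⟩ := Polynomial.lifts_and_degree_eq_and_monic hlift hp
      refine ⟨q, hqm, ?_⟩
      rw [← hq, Polynomial.eval₂_map] at hpf
      exact hpf
    intro V hVR
    have hk : ∀ r : k, algebraMap k K r ∈ V := fun r => hVR ⟨algebraMap k S₀ r,
      (IsScalarTower.algebraMap_apply k S₀ K r).symm⟩
    obtain ⟨K', _, _, κ, O', hback, hfwd, φ₀, β, hφ₀, hid⟩ := exists_lift_valuation hB K φ V hk
    let Q : (P B → k) → Prop := fun c' => ∃ q : Γ(B.left, ⊤), (∀ y, ev y q = c' y) ∧ β q ∈ O'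
    have hQ : ∀ c' ∈ Submonoid.closure {c' | ∃ f' ∈ F, Semi iB c' f'}, Q c' := by
      intro c' hc'
      induction hc' using Submonoid.closure_induction with
      | one => exact ⟨1, fun y => map_one _, by rw [map_one]; exact O'.one_mem⟩
      | mul a b _ _ ha hb =>
        obtain ⟨qa, hqa, hqa'⟩ := ha
        obtain ⟨qb, hqb, hqb'⟩ := hb
        exact ⟨qa * qb, fun y => by rw [map_mul, hqa, hqb]; rfl, by rw [map_mul]; exact O'.mul_mem _ _ hqa' hqb'⟩
      | mem c' hc' =>
        obtain ⟨f', hf', hsemi⟩ := hc'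
        obtain ⟨z, hz⟩ : ∃ z : P G, ev z f' ≠ 0 := by
          by_contra h
          push Not at h
          exact (hF f' hf').1 (ext_points fun x => by rw [h x, map_zero])
        let q := (ev z f')⁻¹ • restr iB (ltr z f')
        have hq : ∀ y, ev y q = c' y := fun y => by
          show ev y ((ev z f')⁻¹ • restr iB (ltr z f')) = c' y
          rw [Algebra.smul_def, map_mul, ev_const, ev_restr, ev_ltr, hsemi, mul_comm (c' y),
            inv_mul_cancel_left₀ hz]
        refine ⟨q, hq, ?_⟩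
        obtain ⟨a, ha⟩ := Submodule.mem_span_finset.mp (hcover f' hf')
        obtain ⟨w, hw, hwu⟩ : ∃ w ∈ ((cover f' hf').image fun g => ltr g f'),
            IsUnit (⟨φ₀ w, hφ₀ w⟩ : O') := by
          by_contra hno
          push Not at hno
          have h1 : (∑ w ∈ (cover f' hf').image (fun g => ltr g f'), (⟨φ₀ (a w), hφ₀ _⟩ : O') * ⟨φ₀ w, hφ₀ w⟩)
              ∈ IsLocalRing.maximalIdeal O' :=
            Ideal.sum_mem _ fun w hw => Ideal.mul_mem_left _ _ ((IsLocalRing.mem_maximalIdeal _).mpr (hno w hw))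
          refine (IsLocalRing.maximalIdeal.isMaximal O').ne_top ((Ideal.eq_top_iff_one _).mpr ?_)
          convert h1 using 1
          refine Subtype.ext ?_
          rw [OneMemClass.coe_one, AddSubmonoidClass.coe_finsetSum, ← map_one φ₀, ← ha.2, map_sum]
          exact Finset.sum_congr rfl fun w _ => by rw [smul_eq_mul, map_mul]; rfl
        have hwV : κ (φ w) ∈ O' := hfwd _ (hVR ⟨⟨w, Algebra.subset_adjoin (Finset.mem_coe.mpr
          (Finset.mem_biUnion.mpr ⟨⟨f', hf'⟩, Finset.mem_attach _ _, hw⟩))⟩, rfl⟩)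
        obtain ⟨g, -, rfl⟩ := Finset.mem_image.mp hw
        have h2 := hid (Obs.ltr g f') (n := 1) (fun _ => Obs.ltr g f') (fun _ => q) fun x y => by
          rw [Fin.sum_univ_one, (hsemi.ltr g) x y, hq, mul_comm]
        rw [Fin.sum_univ_one] at h2
        obtain ⟨⟨i, hi⟩, hi1⟩ := isUnit_iff_exists_inv.mp hwu
        have h3 : i * φ₀ (Obs.ltr g f') = 1 := by
          rw [mul_comm]; exact congrArg Subtype.val hi1
        have h4 : β q = i * κ (φ (Obs.ltr g f')) := by rw [h2, ← _root_.mul_assoc, h3, _root_.one_mul]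
        rw [h4]
        exact O'.mul_mem _ _ hi hwV
    obtain ⟨q, hq, hq'⟩ := hQ c (hgen c f hf0 hfi hc)
    refine hback _ ?_
    have h2 := hid f (n := 1) (fun _ => f) (fun _ => q) fun x y => by
      rw [Fin.sum_univ_one, hc x y, hq, mul_comm]
    rw [Fin.sum_univ_one] at h2
    rw [h2]
    exact O'.mul_mem _ _ (hφ₀ f) hq'
  have hintR : ∀ f ∈ invAlg (G := G) (u ≫ iB), IsIntegral S₀ (algebraMap Γ(G.left, ⊤) K f) := by
    intro f hf
    have h := hspan f hf
    clear hf
    induction h using Submodule.span_induction with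
    | mem x hx =>
      obtain ⟨hxi, c, hc⟩ := hx
      by_cases hx0 : x = 0
      · rw [hx0, map_zero]; exact isIntegral_zero
      · exact hint c x hx0 hxi hc
    | zero => rw [map_zero]; exact isIntegral_zero
    | add x y hx hy ihx ihy => rw [map_add]; exact ihx.add ihy
    | smul r x hx ihx =>
      rw [Algebra.smul_def, map_mul, ← IsScalarTower.algebraMap_apply k Γ(G.left, ⊤) K,
        IsScalarTower.algebraMap_apply k S₀ K]
      exact isIntegral_algebraMap.mul ihx
  -- finiteness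
  haveI : Algebra.FiniteType k S₀ := (Subalgebra.fg_iff_finiteType _).mp ⟨gens, rfl⟩
  have hNag : CAlg.IsNagata S₀ := Lib.Cohen.NagataFiniteType.isNagata_of_finiteType (H25.NagataStalk.isNagata_field k)
  haveI : Algebra.EssFiniteType Γ(G.left, ⊤) K := Algebra.EssFiniteType.of_isLocalization K (nonZeroDivisors Γ(G.left, ⊤))
  haveI : Algebra.EssFiniteType k K := Algebra.EssFiniteType.comp k Γ(G.left, ⊤) K
  haveI : Algebra.EssFiniteType S₀ K := Algebra.EssFiniteType.of_comp k S₀ K
  haveI := Lib.Normalization.Relative.finite_integralClosure_field (κ := K) hNag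
  haveI := hNag.1
  let N : Submodule S₀ K :=
    { carrier := (algebraMap Γ(G.left, ⊤) K) '' (invAlg (G := G) (u ≫ iB) : Set Γ(G.left, ⊤))
      zero_mem' := ⟨0, Subalgebra.zero_mem _, map_zero _⟩
      add_mem' := by
        rintro _ _ ⟨a, ha, rfl⟩ ⟨b, hb, rfl⟩
        exact ⟨a + b, Subalgebra.add_mem _ ha hb, map_add _ _ _⟩
      smul_mem' := by
        rintro s _ ⟨a, ha, rfl⟩
        exact ⟨s.1 * a, Subalgebra.mul_mem _ (hS₀R s.2) ha, by
          rw [map_mul, Algebra.smul_def]; rfl⟩ }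
  have hNle : N ≤ Subalgebra.toSubmodule (integralClosure S₀ K) := by
    rintro _ ⟨a, ha, rfl⟩
    exact hintR a ha
  haveI : Module.Finite S₀ (Subalgebra.toSubmodule (integralClosure S₀ K)) :=
    inferInstanceAs (Module.Finite S₀ (integralClosure S₀ K))
  haveI : IsNoetherianRing S₀ := Algebra.FiniteType.isNoetherianRing k S₀
  have hNfg : N.FG := by
    have hfg := IsNoetherian.noetherian (R := S₀) (N.comap (Subalgebra.toSubmodule (integralClosure S₀ K)).subtype)
    have := hfg.map (Subalgebra.toSubmodule (integralClosure S₀ K)).subtype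
    rwa [Submodule.map_comap_subtype, inf_eq_right.mpr hNle] at this
  obtain ⟨T, hT⟩ := hNfg
  have hTmem : ∀ t ∈ T, ∃ a ∈ invAlg (G := G) (u ≫ iB), algebraMap Γ(G.left, ⊤) K a = t := fun t ht =>
    hT.le (Submodule.subset_span (Finset.mem_coe.mpr ht))
  choose lift hlift hlift' using hTmem
  refine ⟨gens ∪ T.attach.image (fun t => lift t.1 t.2), le_antisymm (Algebra.adjoin_le ?_) fun f hf => ?_⟩
  · intro w hw
    simp only [Finset.coe_union, Set.mem_union, Finset.mem_coe, Finset.mem_image] at hw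
    rcases hw with hw | ⟨t, -, rfl⟩
    · exact hgens w hw
    · exact hlift _ _
  · have hmem : algebraMap Γ(G.left, ⊤) K f ∈ Submodule.span S₀ (T : Set K) := hT.symm.le ⟨f, hf, rfl⟩
    suffices h : ∀ z ∈ Submodule.span S₀ (T : Set K), ∃ a ∈ Algebra.adjoin k
        ((gens ∪ T.attach.image (fun t => lift t.1 t.2) : Finset _) : Set Γ(G.left, ⊤)),
        algebraMap Γ(G.left, ⊤) K a = z by
      obtain ⟨a, ha, he⟩ := h _ hmem
      rwa [← IsFractionRing.injective Γ(G.left, ⊤) K he]
    intro z hz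
    induction hz using Submodule.span_induction with
    | mem t ht =>
      exact ⟨lift t ht, Algebra.subset_adjoin (Finset.mem_coe.mpr (Finset.mem_union_right _
        (Finset.mem_image.mpr ⟨⟨t, ht⟩, Finset.mem_attach _ _, rfl⟩))), hlift' t ht⟩
    | zero => exact ⟨0, Subalgebra.zero_mem _, map_zero _⟩
    | add x y _ _ hx hy =>
      obtain ⟨a, ha, rfl⟩ := hx
      obtain ⟨b, hb, rfl⟩ := hy
      exact ⟨a + b, Subalgebra.add_mem _ ha hb, map_add _ _ _⟩
    | smul s x _ hx =>
      obtain ⟨a, ha, rfl⟩ := hx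
      refine ⟨s.1 * a, Subalgebra.mul_mem _ (Algebra.adjoin_mono ?_ s.2) ha, by
        rw [map_mul, Algebra.smul_def]; rfl⟩
      rw [Finset.coe_union]
      exact Set.subset_union_left

end Connected

end Groth.Agent.H1.Obs.UFG
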