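import Groth.Agent.H1.Obs.UFG.Main
import Mathlib.Order.WellQuasiOrder

/-!
# Weight spaces of the functions on a group invariant under a maximal unipotent subgroup are finite-dimensional
-/

universe u

open CategoryTheory Limits MonoidalCategory CartesianMonoidalCategory MonObj GrpObj AlgebraicGeometry
open scoped TensorProduct

namespace Groth.Agent.H1.Obs.UFG

set_option linter.style.haveILetI false
set_option linter.unusedSectionVars false

open Groth.Agent.Lib.RedPts Groth.Agent.Lib.RedPts.Points Classical Classical.Scheme' Groth.Agent.H1.RInv WithConv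
  Classical.Torus Classical.Torus.Centraliser Classical.MaxTorusScheme Classical.MaxTorusApply Module

attribute [local instance] baseAlgebra _root_.Classical.propDecidable

variable {k : Type u} [Field k] [IsAlgClosed k]
  {G B U T : Over (Spec (CommRingCat.of k))} [GrpObj G] [GrpObj B] [GrpObj U] [GrpObj T]
  [IsAffine G.left] [Smooth G.hom] [ConnectedSpace G.left] {iB : B ⟶ G}

/-- A function invariant on the right under a Borel subgroup is constant. -/
theorem eq_const_of_borel_inv (hB : Red.IsBorelOver k iB) {f : Γ(G.left, ⊤)}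
    (hf : ∀ (x : P G) (y : P B), ev (x * (y ≫ iB)) f = ev x f) : ∃ r : k, f = algebraMap k Γ(G.left, ⊤) r := by
  haveI : IsReduced G.left := Groth.Agent.Lib.GrpSch.isReduced_of_smooth_field G.hom
  haveI := Groth.Agent.H1.Obs.isDomain_functions G
  let K := FractionRing Γ(G.left, ⊤)
  let φ : Γ(G.left, ⊤) →ₐ[k] K := IsScalarTower.toAlgHom k Γ(G.left, ⊤) K
  let R₀ : Subring K := (algebraMap k K).range
  have hV : ∀ V : ValuationSubring K, (R₀ : Set K) ⊆ V.toSubring → φ f ∈ V := by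
    intro V hVR
    obtain ⟨K', _, _, κ, O', hback, -, φ₀, β, hφ₀, hid⟩ :=
      exists_lift_valuation hB K φ V fun r => hVR ⟨r, rfl⟩
    refine hback _ ?_
    have h2 := hid f (n := 1) (fun _ => f) (fun _ => 1) fun x y => by
      rw [Fin.sum_univ_one, hf, map_one, _root_.mul_one]
    rw [Fin.sum_univ_one, map_one, _root_.mul_one] at h2
    rw [h2]
    exact hφ₀ f
  have h1 : φ f ∈ (integralClosure (Subring.closure (R₀ : Set K)) K).toSubring := by
    rw [← iInf_valuationSubring_superset, Subring.mem_iInf]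
    exact fun V => hV V.1 V.2
  have h2 : IsIntegral (Subring.closure (R₀ : Set K)) (φ f) := h1
  rw [Subring.closure_eq] at h2
  obtain ⟨p, hp, hpf⟩ := h2
  have hlift : p ∈ Polynomial.lifts (algebraMap k K).rangeRestrict := by
    rw [Polynomial.lifts_iff_coeff_lifts]
    exact fun i => RingHom.rangeRestrict_surjective _ (p.coeff i)
  obtain ⟨q, hq, -, hqm⟩ := Polynomial.lifts_and_degree_eq_and_monic hlift hp
  have hint : IsIntegral k (φ f) := by
    refine ⟨q, hqm, ?_⟩
    rw [← hq, Polynomial.eval₂_map] at hpf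
    exact hpf
  obtain ⟨r, hr⟩ : φ f ∈ (algebraMap k K).range :=
    minpoly.mem_range_of_degree_eq_one k _ (IsAlgClosed.degree_eq_one_of_irreducible k (minpoly.irreducible hint))
  refine ⟨r, IsFractionRing.injective Γ(G.left, ⊤) K ?_⟩
  show φ f = φ (algebraMap k _ r)
  rw [AlgHom.commutes, hr]

variable {u : U ⟶ B} {t : T ⟶ B}

/-- A weight trivial on a maximal torus of a Borel subgroup is trivial. -/
theorem weight_eq_one (hB : Red.IsBorelOver k iB) (hU : Par.IsUnipotentRadical u) [IsMonHom t]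
    (hT : AGF.IsMaxTorus (t ≫ iB)) {c : P B → k} (hmul : ∀ y y', c (y * y') = c y * c y') (hU1 : ∀ z : P U, c (z ≫ u) = 1)
    (hT1 : ∀ z : P T, c (z ≫ t) = 1) (y : P B) : c y = 1 := by
  haveI := hB.1
  haveI := hB.2.1
  haveI := hU.1
  haveI : Mono iB := Over.mono_of_mono_left iB
  obtain ⟨A, _, _, _, _, e, he⟩ := exists_GA G
  haveI := he
  haveI := locallyOfFiniteType (k := k) (A := A)
  have hbor := isBor_ptsOf (iB ≫ e.hom) (isBorelOver_comp hB e)
  obtain ⟨W, _, σ, hσ⟩ := GenRep.exists_gen (HopfPts.D k A) hasMul_pts pts_ext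
  have hirrB : ((HopfPts.D k A).restrict _ hbor.cl).SIrr Set.univ :=
    ((HopfPts.D k A).sirr_restrict).mpr (by rw [Set.image_univ, Subtype.range_coe_subtype]; exact hbor.irr)
  haveI := hbor.solv
  obtain ⟨T₀, Us, τ, hs⟩ := Split.exists_split _ hirrB (σ.comp (ptsOf (iB ≫ e.hom)).subtype)
    (GenRep.Gen.restrict (HopfPts.D k A) hσ (ptsOf (iB ≫ e.hom)) hbor.cl)
  have hUs := unipotent_mem_radical e hB hU hσ hs
  haveI : IsMonHom (t ≫ iB) := hT.1
  have hmax := isMax_ptsOf_torus ((t ≫ iB) ≫ e.hom) (isMaxTorus_comp e hT)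
  have hle : ptsOf ((t ≫ iB) ≫ e.hom) ≤ ptsOf (iB ≫ e.hom) := by
    rintro χ ⟨x, hx⟩
    exact ⟨x ≫ t, by rw [← hx]; show (x ≫ t) ≫ iB ≫ e.hom = x ≫ (t ≫ iB) ≫ e.hom; simp only [Category.assoc]⟩
  obtain ⟨a, haB, ha⟩ := MaxTorus.conj_into_borel hasMul_pts hσ hbor.cl hs hmax.tor hle
  have hset : ((T₀.map (ptsOf (iB ≫ e.hom)).subtype : Subgroup _) : Set (HopfPts.Pt k A)) =
      Subtype.val '' (T₀ : Set (ptsOf (iB ≫ e.hom))) := Subgroup.coe_map _ _
  have hT₀ : IsTor (HopfPts.D k A) (T₀.map (ptsOf (iB ≫ e.hom)).subtype) := by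
    refine ⟨hset ▸ (HopfPts.D k A).isCl_image hs.clT, hset ▸ (HopfPts.D k A).sirr_restrict.mp hs.irrT, ?_, ?_⟩
    · rintro _ ⟨a, ha, rfl⟩ _ ⟨b, hb, rfl⟩
      rw [← map_mul, hs.comm a ha b hb, map_mul]
    · rintro f hf h _ ⟨z, hz, rfl⟩
      refine hs.dense _ ⟨f, hf, rfl⟩ (fun s hsT ⟨m, hm, hsm⟩ => h _ ⟨s, hsT, rfl⟩ ⟨m, hm, ?_⟩) z hz
      show ((s : HopfPts.Pt k A)) ^ m = 1
      rw [← SubmonoidClass.coe_pow, hsm, OneMemClass.coe_one]
  have heq := (hmax.map_conj a).max _ hT₀ (by rintro _ ⟨x, hx, rfl⟩; exact ha x hx)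
  let cB : ptsOf (iB ≫ e.hom) → k := fun b => c b.2.choose
  have hcB : ∀ (b : ptsOf (iB ≫ e.hom)) (z : P B), z ≫ iB = toP e (b : HopfPts.Pt k A) → cB b = c z := by
    intro b z hz
    refine congrArg c ?_
    rw [← cancel_mono (iB ≫ e.hom), show b.2.choose ≫ iB ≫ e.hom = _ from b.2.choose_spec, ← Category.assoc, hz,
      toP_comp]
  have hcB' : ∀ b : ptsOf (iB ≫ e.hom), ∃ z : P B, z ≫ iB = toP e (b : HopfPts.Pt k A) := fun b =>
    exists_point_borel e b
  have hcmul : ∀ b b', cB (b * b') = cB b * cB b' := fun b b' => by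
    obtain ⟨z, hz⟩ := hcB' b
    obtain ⟨z', hz'⟩ := hcB' b'
    rw [hcB b z hz, hcB b' z' hz', ← hmul]
    refine hcB _ _ ?_
    rw [MonObj.mul_comp, hz, hz', Subgroup.coe_mul, map_mul]
  have hc1 : cB 1 = 1 := by
    rw [hcB 1 ((1 : P U) ≫ u) (by rw [MonObj.one_comp, MonObj.one_comp, OneMemClass.coe_one, map_one]), hU1]
  obtain ⟨χ, hχ⟩ := toP_surjective e (y ≫ iB)
  let b : ptsOf (iB ≫ e.hom) := ⟨χ, y, by rw [← toP_comp e, hχ, Category.assoc]; rfl⟩
  rw [← hcB b y hχ.symm]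
  have hu1 : cB ((τ b)⁻¹ * b) = 1 := by
    have hmem : (τ b)⁻¹ * b ∈ Us := (hs.tau_ker _).mp (by
      rw [map_mul, map_inv, hs.tau_fix _ (hs.tau_mem b), inv_mul_cancel])
    obtain ⟨z, hz⟩ := hUs _ hmem
    rw [hcB _ (z ≫ u) (by rw [Category.assoc, hz]), hU1]
  have ht1 : cB (τ b) = 1 := by
    obtain ⟨x, ⟨w, hw⟩, hx⟩ := heq ⟨τ b, hs.tau_mem b, rfl⟩
    let a' : ptsOf (iB ≫ e.hom) := ⟨a, haB⟩
    let x' : ptsOf (iB ≫ e.hom) := ⟨x, hle ⟨w, hw⟩⟩
    have h1 : τ b = a' * x' * a'⁻¹ := Subtype.ext hx.symm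
    have h2 : cB x' = 1 := by
      rw [hcB x' (w ≫ t), hT1]
      rw [← cancel_mono e.hom, toP_comp]
      exact hw
    rw [h1, hcmul, hcmul, h2, _root_.mul_one, ← hcmul, mul_inv_cancel, hc1]
  rw [show b = τ b * ((τ b)⁻¹ * b) by group, hcmul, ht1, hu1, _root_.one_mul]

/-- The functions invariant under `U` of a given weight under the torus form a finite-dimensional space. -/
theorem exists_finite_weightSpace (hB : Red.IsBorelOver k iB) (hU : Par.IsUnipotentRadical u) [IsMonHom t]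
    (hT : AGF.IsMaxTorus (t ≫ iB)) (ω : P T →* k) :
    ∃ s : Finset Γ(G.left, ⊤), ∀ f, Inv (u ≫ iB) f → (∀ (x : P G) (z : P T), ev (x * (z ≫ t ≫ iB)) f = ω z * ev x f) →
      f ∈ Submodule.span k (s : Set Γ(G.left, ⊤)) := by
  classical
  haveI := hB.1
  haveI := hU.1
  haveI : IsReduced G.left := Groth.Agent.Lib.GrpSch.isReduced_of_smooth_field G.hom
  haveI := Groth.Agent.H1.Obs.isDomain_functions G
  obtain ⟨n, χ, -, hspan, -⟩ := exists_weights hB hU
  obtain ⟨S, hS⟩ := fg_connected hB hU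
  have hSinv : ∀ g ∈ S, Inv (u ≫ iB) g := fun g hg => by
    have : g ∈ invAlg (G := G) (u ≫ iB) := hS ▸ Algebra.subset_adjoin (Finset.mem_coe.mpr hg)
    exact this
  choose L₀ hL₀ hL₀' using fun g : S => Submodule.mem_span_finite_of_mem_span (hspan g.1 (hSinv g.1 g.2))
  let L := (Finset.univ.biUnion L₀).filter fun g => g ≠ 0
  have hL : ∀ g : L, (g : Γ(G.left, ⊤)) ≠ 0 ∧ Inv (u ≫ iB) (g : Γ(G.left, ⊤)) ∧ ∃ c, Semi iB c (g : Γ(G.left, ⊤)) := by
    intro g
    obtain ⟨hg, hg0⟩ := Finset.mem_filter.mp g.2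
    obtain ⟨j, -, hj⟩ := Finset.mem_biUnion.mp hg
    exact ⟨hg0, hL₀ j (Finset.mem_coe.mpr hj)⟩
  choose hL0 hLi c hc using hL
  have hz : ∀ g : L, ∃ z : P G, ev z (g : Γ(G.left, ⊤)) ≠ 0 := fun g => by
    by_contra h
    push Not at h
    exact hL0 g (ext_points fun x => by rw [h x, map_zero])
  have hcm : ∀ (g : L) y y', c g (y * y') = c g y * c g y' := fun g y y' => by
    obtain ⟨z, hz⟩ := hz g
    refine mul_right_cancel₀ hz ?_
    rw [← hc g, MonObj.mul_comp, ← _root_.mul_assoc z, hc g, hc g]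
    ring
  have hc1 : ∀ g : L, c g 1 = 1 := fun g => by
    obtain ⟨z, hz⟩ := hz g
    refine mul_right_cancel₀ hz ?_
    rw [← hc g, MonObj.one_comp, _root_.mul_one, _root_.one_mul]
  let θ : (L → ℕ) → (P T →* k) := fun a =>
    { toFun := fun z => ∏ g, c g (z ≫ t) ^ a g
      map_one' := Finset.prod_eq_one fun g _ => by rw [MonObj.one_comp, hc1, one_pow]
      map_mul' := fun z z' => by
        rw [← Finset.prod_mul_distrib]
        exact Finset.prod_congr rfl fun g _ => by rw [MonObj.mul_comp, hcm, mul_pow] }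
  let m : (L → ℕ) → Γ(G.left, ⊤) := fun a => ∏ g : L, (g : Γ(G.left, ⊤)) ^ a g
  have hmsemi : ∀ (a : L → ℕ) (x : P G) (y : P B), ev (x * (y ≫ iB)) (m a) = (∏ g, c g y ^ a g) * ev x (m a) := by
    intro a x y
    simp only [m, map_prod, map_pow]
    rw [← Finset.prod_mul_distrib]
    exact Finset.prod_congr rfl fun g _ => by rw [hc g, mul_pow]
  have hminv : ∀ a, Inv (u ≫ iB) (m a) := fun a x z => by
    simp only [m, map_prod, map_pow]
    exact Finset.prod_congr rfl fun g _ => by rw [hLi g]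
  -- monomials of trivial weight are constant
  have hconst : ∀ a, θ a = 1 → ∃ r : k, m a = algebraMap k Γ(G.left, ⊤) r := fun a ha => by
    refine eq_const_of_borel_inv hB fun x y => ?_
    rw [hmsemi, weight_eq_one hB hU hT (c := fun y => ∏ g, c g y ^ a g)
      (fun y y' => by
        rw [← Finset.prod_mul_distrib]
        exact Finset.prod_congr rfl fun g _ => by rw [hcm, mul_pow])
      (fun z => by
        obtain ⟨w, hw⟩ : ∃ w : P G, ev w (m a) ≠ 0 := by
          by_contra h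
          push Not at h
          refine Finset.prod_ne_zero_iff.mpr (fun g _ => pow_ne_zero (a g) (hL0 g))
            (ext_points fun x => by rw [map_zero]; exact h x : m a = 0)
        refine mul_right_cancel₀ hw ?_
        rw [← hmsemi, Category.assoc, hminv a, _root_.one_mul])
      (fun z => DFunLike.congr_fun ha z) y, _root_.one_mul]
  -- minimal exponents of weight ω
  have hfin : {a | Minimal (fun a : L → ℕ => θ a = ω) a}.Finite :=
    WellQuasiOrderedLE.finite_of_isAntichain (setOfPred_minimal_antichain _)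
  refine ⟨hfin.toFinset.image m, fun f hfi hfω => ?_⟩
  have hmem : f ∈ Algebra.adjoin k (Set.range fun g : L => (g : Γ(G.left, ⊤))) := by
    have h1 : f ∈ Algebra.adjoin k (S : Set Γ(G.left, ⊤)) := by rw [hS]; exact hfi
    refine Algebra.adjoin_le ?_ h1
    intro g hg
    refine (Submodule.span_le.mpr ?_ : Submodule.span k (L₀ ⟨g, hg⟩ : Set Γ(G.left, ⊤)) ≤
      Subalgebra.toSubmodule (Algebra.adjoin k _)) (hL₀' ⟨g, hg⟩)
    intro x hx
    by_cases hx0 : x = 0
    · rw [hx0]; exact Submodule.zero_mem _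
    · exact Algebra.subset_adjoin ⟨⟨x, Finset.mem_filter.mpr ⟨Finset.mem_biUnion.mpr ⟨_, Finset.mem_univ _, hx⟩, hx0⟩⟩, rfl⟩
  rw [Algebra.adjoin_range_eq_range_aeval] at hmem
  obtain ⟨p, hpf⟩ := hmem
  change (MvPolynomial.aeval fun g : L => (g : Γ(G.left, ⊤))) p = f at hpf
  subst hpf
  have hp : ∀ x : P G, ev x ((MvPolynomial.aeval fun g : L => (g : Γ(G.left, ⊤))) p) =
      ∑ a ∈ p.support, p.coeff a * ev x (m a) := fun x => by
    rw [MvPolynomial.aeval_def, MvPolynomial.eval₂_eq', map_sum]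
    exact Finset.sum_congr rfl fun a _ => by rw [map_mul, ev_const]
  -- independence of the characters
  let J : Finset (P T →* k) := insert ω (p.support.image fun a : L →₀ ℕ => θ ⇑a)
  let G' : (P T →* k) → P G → k := fun χ x => ∑ a ∈ p.support.filter fun a : L →₀ ℕ => θ a = χ, p.coeff a * ev x (m a)
  have hsum : ∀ x, ev x ((MvPolynomial.aeval fun g : L => (g : Γ(G.left, ⊤))) p) = ∑ χ ∈ J, G' χ x := fun x => by
    rw [hp]
    exact (Finset.sum_fiberwise_of_maps_to (s := p.support) (t := J) (g := fun a : L →₀ ℕ => θ ⇑a)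
      (fun a ha => Finset.mem_insert_of_mem (Finset.mem_image_of_mem (fun a : L →₀ ℕ => θ ⇑a) ha)) _).symm
  have hcoef : ∀ x, ∀ χ ∈ J, (if χ = ω then G' χ x - ∑ χ' ∈ J, G' χ' x else G' χ x) = 0 := fun x => by
    refine linearIndependent_iff'.mp (linearIndependent_monoidHom (P T) k) J _ ?_
    funext z
    have h1 : ∑ χ ∈ J, G' χ x * χ z = ev (x * (z ≫ t ≫ iB)) ((MvPolynomial.aeval fun g : L => (g : Γ(G.left, ⊤))) p) := by
      rw [hp, ← Finset.sum_fiberwise_of_maps_to (t := J) (g := fun a : L →₀ ℕ => θ a)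
        fun a ha => Finset.mem_insert_of_mem (Finset.mem_image_of_mem (fun a : L →₀ ℕ => θ ⇑a) ha)]
      refine Finset.sum_congr rfl fun χ _ => ?_
      rw [Finset.sum_mul]
      refine Finset.sum_congr rfl fun a ha => ?_
      rw [← (Finset.mem_filter.mp ha).2, ← Category.assoc, hmsemi]
      show _ * (∏ g, c g (z ≫ t) ^ a g) = _
      ring
    simp only [Finset.sum_apply, Pi.smul_apply, smul_eq_mul, Pi.zero_apply]
    rw [Finset.sum_congr rfl (fun χ _ => show (if χ = ω then G' χ x - ∑ χ' ∈ J, G' χ' x else G' χ x) * χ z =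
        G' χ x * χ z - (if χ = ω then (∑ χ' ∈ J, G' χ' x) * χ z else 0) by split_ifs <;> ring),
      Finset.sum_sub_distrib, Finset.sum_ite_eq', if_pos (Finset.mem_insert_self _ _), h1, hfω, ← hsum, mul_comm,
      sub_self]
  have hfeq : (MvPolynomial.aeval fun g : L => (g : Γ(G.left, ⊤))) p =
      ∑ a ∈ p.support.filter fun a : L →₀ ℕ => θ a = ω, p.coeff a • m a := ext_points fun x => by
    have := hcoef x ω (Finset.mem_insert_self _ _)
    rw [if_pos rfl, sub_eq_zero, ← hsum] at this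
    rw [← this, map_sum]
    exact Finset.sum_congr rfl fun a _ => by rw [Algebra.smul_def, map_mul, ev_const]
  show (MvPolynomial.aeval fun g : L => (g : Γ(G.left, ⊤))) p ∈ _
  rw [hfeq]
  refine Submodule.sum_mem _ fun a ha => Submodule.smul_mem _ _ ?_
  have haω : θ a = ω := (Finset.mem_filter.mp ha).2
  obtain ⟨b, hba, hb⟩ := exists_minimal_le_of_wellFoundedLT (fun a : L → ℕ => θ a = ω) a haω
  have hd : ∀ g, b g + (⇑a - b) g = a g := fun g => Nat.add_sub_cancel' (hba g)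
  have hd1 : θ (⇑a - b) = 1 := MonoidHom.ext fun z => by
    have h4 : θ b z * θ (⇑a - b) z = θ (⇑a) z := by
      show (∏ g, _) * ∏ g, _ = ∏ g, _
      rw [← Finset.prod_mul_distrib]
      exact Finset.prod_congr rfl fun g _ => by rw [← pow_add, hd]
    have h2 : θ b z * θ (⇑a - b) z = θ b z * 1 := by rw [h4, haω, hb.prop, _root_.mul_one]
    refine mul_left_cancel₀ (fun h0 => ?_) h2
    have h3 := map_mul (θ b) z z⁻¹
    rw [mul_inv_cancel, map_one, h0, zero_mul] at h3
    exact one_ne_zero h3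
  obtain ⟨r, hr⟩ := hconst _ hd1
  have hmul : m a = m b * m (⇑a - b) := by
    simp only [m, ← Finset.prod_mul_distrib, ← pow_add, hd]
  rw [hmul, hr, mul_comm, ← Algebra.smul_def]
  exact Submodule.smul_mem _ _ (Submodule.subset_span (Finset.mem_coe.mpr
    (Finset.mem_image.mpr ⟨b, hfin.mem_toFinset.mpr hb, rfl⟩)))

end Groth.Agent.H1.Obs.UFG
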